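import Cfsg.Agent.Lib.SmallSimple.AtMost1092.Tools

/-!
No simple group has an involution centralizer that is a quaternion group of order eight extended by an
involution centralizing only the centre: the transfer would be nontrivial.
-/

set_option autoImplicit false

namespace CfsgLib.SmallSimple.AtMost1092

open Subgroup CfsgLib

variable {G : Type*} [Group G] [Finite G] [IsSimpleGroup G]

/-- The transfer to a quotient of order two of such a centralizer is nontrivial. -/
theorem no_quaternion_centralizer (hG : ¬ IsMulCommutative G) (Q : Subgroup G) {t u : G}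
    (hQ8 : Nat.card Q = 8) (ht : t ∈ Q) (ht1 : t ≠ 1) (htt : t * t = 1)
    (hsq : ∀ q ∈ Q, q ≠ 1 → q ≠ t → q * q = t) (hu : u * u = 1) (huQ : u ∉ Q)
    (hnorm : ∀ q ∈ Q, u * q * u ∈ Q) (hut : Commute u t)
    (hfix : ∀ q ∈ Q, Commute u q → q = 1 ∨ q = t)
    (hS : ∀ g, Commute g t → g ∈ Q ∨ u * g ∈ Q) : False := by
  classical
  have huinv : u⁻¹ = u := inv_eq_of_mul_eq_one_right hu
  have huu : ∀ a : G, u * (u * a) = a := fun a => by rw [← mul_assoc, hu, one_mul]
  have htinv : t⁻¹ = t := inv_eq_of_mul_eq_one_right htt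
  have hQt : ∀ q ∈ Q, Commute q t := by
    intro q hq
    by_cases h1 : q = 1
    · rw [h1]; exact Commute.one_left t
    by_cases h2 : q = t
    · rw [h2]
    rw [← hsq q hq h1 h2]
    exact (Commute.refl q).mul_right (Commute.refl q)
  have huniq : ∀ q ∈ Q, q * q = 1 → q = 1 ∨ q = t := by
    intro q hq h
    by_contra hne
    push Not at hne
    exact ht1 ((hsq q hq hne.1 hne.2).symm.trans h)
  -- the element of order eight
  obtain ⟨q, hq, hi1, hit⟩ : ∃ q ∈ Q, u * q * u * q ≠ 1 ∧ u * q * u * q ≠ t := by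
    by_contra hall
    push Not at hall
    have hinv : ∀ q ∈ Q, u * q * u = q⁻¹ := by
      intro q hq
      by_cases h1 : q = 1
      · rw [h1, mul_one, hu, inv_one]
      by_cases h2 : q = t
      · rw [h2, hut.eq, mul_assoc, hu, mul_one, htinv]
      by_cases h : u * q * u * q = 1
      · exact mul_eq_one_iff_eq_inv.1 h
      · exfalso
        have h3 := hall q hq h
        rw [← hsq q hq h1 h2, mul_left_inj] at h3
        rcases hfix q hq (show Commute u q by
          show u * q = q * u
          conv_rhs => rw [← h3]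
          rw [mul_assoc, hu, mul_one]) with h4 | h4
        · exact h1 h4
        · exact h2 h4
    have hcomm : ∀ a ∈ Q, ∀ b ∈ Q, a * b = b * a := by
      intro a ha b hb
      have h := hinv _ (mul_mem ha hb)
      have h' : u * (a * b) * u = (u * a * u) * (u * b * u) := by simp only [mul_assoc, huu]
      rw [h', hinv a ha, hinv b hb, mul_inv_rev] at h
      have h2 := congrArg (fun z => z⁻¹) h
      simpa using h2.symm
    obtain ⟨q1, hq1, h11, h1t⟩ : ∃ q1 ∈ Q, q1 ≠ 1 ∧ q1 ≠ t := by
      by_contra h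
      push Not at h
      have hle : Nat.card Q ≤ ({1, t} : Finset G).card := by
        rw [← Nat.card_eq_finsetCard]
        exact Nat.card_le_card_of_injective (fun z : Q => (⟨z.1, by
          by_cases hz : (z : G) = 1
          · rw [hz]; simp
          · rw [h z.1 z.2 hz]; simp⟩ : ({1, t} : Finset G))) fun a b hab =>
            Subtype.ext (congrArg (fun w => w.1) hab)
      have := hle.trans Finset.card_le_two
      omega
    have hle : Nat.card Q ≤ ({1, t, q1, t * q1} : Finset G).card := by
      rw [← Nat.card_eq_finsetCard]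
      refine Nat.card_le_card_of_injective (fun z : Q => (⟨z.1, ?_⟩ : ({1, t, q1, t * q1} : Finset G)))
        fun a b hab => Subtype.ext (congrArg (fun w => w.1) hab)
      simp only [Finset.mem_insert, Finset.mem_singleton]
      by_cases hz1 : (z : G) = 1
      · exact Or.inl hz1
      by_cases hzt : (z : G) = t
      · exact Or.inr (Or.inl hzt)
      have hd : (z : G) * q1⁻¹ * ((z : G) * q1⁻¹) = 1 := by
        rw [mul_assoc (z : G) q1⁻¹, ← mul_assoc q1⁻¹, hcomm q1⁻¹ (inv_mem hq1) z z.2, ← mul_assoc, ← mul_assoc,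
          hsq z z.2 hz1 hzt, mul_assoc, ← mul_inv_rev, hsq q1 hq1 h11 h1t, mul_inv_cancel]
      rcases huniq _ (mul_mem z.2 (inv_mem hq1)) hd with h | h
      · exact Or.inr (Or.inr (Or.inl (mul_inv_eq_one.1 h)))
      · exact Or.inr (Or.inr (Or.inr (mul_inv_eq_iff_eq_mul.1 h)))
    have h4 : ({1, t, q1, t * q1} : Finset G).card ≤ 4 := Finset.card_le_four
    omega
  set i := u * q * u * q with hidef
  obtain ⟨x, hxdef⟩ : ∃ x, x = u * q := ⟨_, rfl⟩
  have hxx : x * x = i := by rw [hxdef, hidef]; simp only [mul_assoc]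
  have hiQ : i ∈ Q := mul_mem (hnorm q hq) hq
  have hii : i * i = t := hsq i hiQ hi1 hit
  have hq1 : q ≠ 1 := by rintro rfl; exact hi1 (by rw [hidef]; simp [hu])
  have hqt : q ≠ t := by
    rintro rfl
    exact hi1 (by rw [hidef, hut.eq]; simp [mul_assoc, huu, htt])
  have hxu : u * x * u = x * x * x := by
    have h := hsq _ (mul_mem (hnorm q hq) hq) hi1 hit
    have h2 : u * q * u * q * (u * q * u) * q = q * q := by
      rw [hsq q hq hq1 hqt, ← h]; simp only [mul_assoc]
    have h3 : u * q * u * q * (u * q * u) = q := mul_right_cancel h2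
    rw [hxdef]
    calc u * (u * q) * u = q * u := by rw [huu]
      _ = u * q * u * q * (u * q * u) * u := by rw [h3]
      _ = u * q * (u * q) * (u * q) := by simp only [mul_assoc, hu, mul_one]
  have hi4 : i ^ 4 = 1 := by rw [show i ^ 4 = i * i * (i * i) by simp only [pow_succ, pow_zero, one_mul, mul_assoc], hii, htt]
  have hio : orderOf i = 4 := by
    refine orderOf_eq_prime_pow (p := 2) (n := 1) ?_ (by rw [show 2 ^ (1 + 1) = 4 from rfl, hi4])
    rw [pow_one, pow_two, hii]; exact ht1
  have hiu : u * i * u = i⁻¹ := by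
    have h : u * i * u = (u * x * u) * (u * x * u) := by rw [← hxx]; simp only [mul_assoc, huu]
    rw [h, hxu, eq_comm, inv_eq_iff_mul_eq_one,
      show i * (x * x * x * (x * x * x)) = i * ((x * x) * (x * x) * (x * x)) by simp only [mul_assoc], hxx, ← hi4]
    simp only [pow_succ, pow_zero, one_mul, mul_assoc]
  set Z := zpowers i with hZdef
  have hiZ : i ∈ Z := mem_zpowers i
  have hZQ : Z ≤ Q := zpowers_le.2 hiQ
  have htZ : t ∈ Z := hii ▸ mul_mem hiZ hiZ
  have hZ4 : Nat.card Z = 4 := by rw [hZdef, Nat.card_zpowers, hio]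
  have hZinv : ∀ z ∈ Z, u * z * u = z⁻¹ := by
    rintro z ⟨k, rfl⟩
    show u * i ^ k * u = (i ^ k)⁻¹
    have hconj : (MulAut.conj u) i = i⁻¹ := by rw [MulAut.conj_apply, huinv, hiu]
    have h := map_zpow (MulAut.conj u) i k
    rwa [hconj, MulAut.conj_apply, huinv, inv_zpow] at h
  have hZidx : (Z.subgroupOf Q).index = 2 := by
    have h := card_mul_index (Z.subgroupOf Q)
    rw [Nat.card_congr (subgroupOfEquivOfLe hZQ).toEquiv, hZ4, hQ8] at h
    omega
  have hqZ : q ∉ Z := fun h => hi1 (by rw [hidef, hZinv q h, inv_mul_cancel])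
  have hnq : ∀ z ∈ Q, z * q ∈ Z ↔ z ∉ Z := by
    intro z hz
    have h := mul_mem_iff_of_index_two hZidx (a := (⟨z, hz⟩ : Q)) (b := ⟨q, hq⟩)
    simp only [mem_subgroupOf] at h
    exact h.trans ⟨fun h' hz' => hqZ (h'.1 hz'), fun hz' => iff_of_false hz' hqZ⟩
  -- the centralizer of the involution and its subgroup of index two
  set S := centralizer ({t} : Set G) with hSdef
  have hmemS : ∀ g, g ∈ S ↔ Commute g t := fun g => by
    rw [hSdef, mem_centralizer_singleton_iff]; exact Iff.rfl
  let M : Subgroup G :=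
    { carrier := {g | g ∈ Z ∨ u * g ∈ Z}
      one_mem' := Or.inl (one_mem Z)
      inv_mem' := fun {a} ha => by
        rcases ha with h | h
        · exact Or.inl (inv_mem h)
        · refine Or.inr ?_
          have h1 := hZinv _ h
          rw [huu, mul_inv_rev, huinv] at h1
          have h2 : u * a⁻¹ = u * (a⁻¹ * u) * u := by simp only [mul_assoc, hu, mul_one]
          rw [h2, ← h1, show u * (a * u) * u = u * a * (u * u) by group, hu, mul_one]
          exact h
      mul_mem' := fun {a b} ha hb => by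
        rcases ha with ha | ha <;> rcases hb with hb | hb
        · exact Or.inl (mul_mem ha hb)
        · refine Or.inr ?_
          rw [show u * (a * b) = (u * a * u) * (u * b) by simp only [mul_assoc, huu], hZinv a ha]
          exact mul_mem (inv_mem ha) hb
        · refine Or.inr ?_
          rw [← mul_assoc]
          exact mul_mem ha hb
        · refine Or.inl ?_
          rw [show a * b = (u * (u * a) * u) * (u * b) by simp only [mul_assoc, huu], hZinv _ ha]
          exact mul_mem (inv_mem ha) hb }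
  have hMQ : ∀ z ∈ Q, z ∈ M ↔ z ∈ Z := fun z hz => ⟨fun h => h.resolve_right fun h' =>
    huQ (by simpa using mul_mem (hZQ h') (inv_mem hz)), Or.inl⟩
  have hMu : ∀ z ∈ Q, u * z ∈ M ↔ z ∈ Z := fun z hz => ⟨fun h => by
    rcases h with h' | h'
    · exact absurd (by simpa using mul_mem (hZQ h') (inv_mem hz)) huQ
    · rwa [huu] at h', fun h => Or.inr (by rwa [huu])⟩
  have hcases : ∀ g ∈ S, ∃ z ∈ Q, g = z ∨ g = u * z := by
    intro g hg
    rcases hS g ((hmemS g).1 hg) with h | h
    · exact ⟨g, h, Or.inl rfl⟩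
    · exact ⟨u * g, h, Or.inr (huu g).symm⟩
  have hqS : q ∈ S := (hmemS q).2 (hQt q hq)
  have hM2 : (M.subgroupOf S).index = 2 := by
    rw [index_eq_two_iff]
    refine ⟨⟨q, hqS⟩, fun g => ?_⟩
    rw [mem_subgroupOf, mem_subgroupOf, Subgroup.coe_mul]
    obtain ⟨z, hz, h | h⟩ := hcases g.1 g.2
    · rw [h]
      rw [hMQ z hz, hMQ _ (mul_mem hz hq), hnq z hz]
      by_cases hzZ : z ∈ Z
      · exact Or.inr ⟨hzZ, not_not_intro hzZ⟩
      · exact Or.inl ⟨hzZ, hzZ⟩
    · rw [h]
      show Xor' (u * z * q ∈ M) (u * z ∈ M)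
      rw [mul_assoc, hMu z hz, hMu _ (mul_mem hz hq), hnq z hz]
      by_cases hzZ : z ∈ Z
      · exact Or.inr ⟨hzZ, not_not_intro hzZ⟩
      · exact Or.inl ⟨hzZ, hzZ⟩
  have hinvol : ∀ g ∈ S, g * g = 1 → g ∈ M := by
    intro g hg hgg
    obtain ⟨z, hz, h | h⟩ := hcases g hg
    · subst h
      rcases huniq g hz hgg with rfl | rfl
      · exact one_mem M
      · exact (hMQ _ ht).2 htZ
    · subst h
      rw [hMu z hz]
      by_contra hzZ
      have hzi : u * z * u = z⁻¹ := by
        rw [eq_inv_iff_mul_eq_one, ← hgg]; simp only [mul_assoc]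
      have hz1 : z ≠ 1 := by rintro rfl; exact hzZ (one_mem Z)
      have hzt : z ≠ t := by rintro rfl; exact hzZ htZ
      have hc : Commute u (i * z) := by
        have h1 : u * (i * z) * u = i * z := by
          rw [show u * (i * z) * u = (u * i * u) * (u * z * u) by simp only [mul_assoc, huu], hiu, hzi,
            ← mul_inv_rev, inv_eq_iff_mul_eq_one, show z * i * (i * z) = z * (i * i) * z by group, hii,
            mul_assoc, ← (hQt z hz).eq, ← mul_assoc, hsq z hz hz1 hzt, htt]
        show u * (i * z) = i * z * u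
        conv_rhs => rw [← h1]
        simp only [mul_assoc, hu, mul_one]
      rcases hfix _ (mul_mem hiQ hz) hc with h | h
      · exact hzZ (by rw [show z = i⁻¹ from (inv_eq_of_mul_eq_one_right h).symm]; exact inv_mem hiZ)
      · exact hzZ (by rw [show z = i⁻¹ * t from eq_inv_mul_of_mul_eq h]; exact mul_mem (inv_mem hiZ) htZ)
  have hCi : ∀ g, g * g = 1 → g ≠ 1 → Commute g i → g = t := by
    intro g hgg hg1 hgi
    have hgt : Commute g t := hii ▸ hgi.mul_right hgi
    rcases hinvol g ((hmemS g).2 hgt) hgg with h | h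
    · exact (huniq g (hZQ h) hgg).resolve_left hg1
    · exfalso
      have hzc : Commute (u * g) i := by
        obtain ⟨k, hk⟩ := mem_zpowers_iff.1 h
        rw [← hk]; exact (Commute.refl i).zpow_left k
      have huc : Commute u i := by
        show u * i = i * u
        calc u * i = u * g * g⁻¹ * i := by group
          _ = u * g * (i * g⁻¹) := by rw [mul_assoc _ g⁻¹, hgi.inv_left.eq]
          _ = i * (u * g) * g⁻¹ := by rw [← mul_assoc, hzc.eq]
          _ = i * u := by group
      rcases hfix i hiQ huc with h' | h'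
      · exact hi1 h'
      · exact hit h'
  -- the transfer
  haveI : (M.subgroupOf S).Normal := normal_of_index_eq_two hM2
  haveI : Fact (Nat.Prime 2) := ⟨Nat.prime_two⟩
  haveI : IsCyclic (S ⧸ M.subgroupOf S) := isCyclic_of_prime_card (p := 2) (by rw [← index, hM2])
  letI : CommGroup (S ⧸ M.subgroupOf S) := IsCyclic.commGroup
  let ϕ : S →* S ⧸ M.subgroupOf S := QuotientGroup.mk' _
  haveI : S.FiniteIndex := ⟨index_ne_zero_of_finite⟩
  haveI : Fintype (Quotient (MulAction.orbitRel (zpowers x) (G ⧸ S))) := Fintype.ofFinite _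
  have hxS : x ∈ S := (hmemS x).2 (hxdef ▸ hut.mul_left (hQt q hq))
  have hxM : x ∉ M := fun h => hqZ ((hMu q hq).1 (hxdef ▸ h))
  have hx4 : x ^ 4 = t := by rw [show x ^ 4 = x * x * (x * x) by simp only [pow_succ, pow_zero, one_mul, mul_assoc], hxx, hii]
  have hperiod : Function.minimalPeriod (x • ·) ((1 : G) : G ⧸ S) = 1 := by
    rw [Function.minimalPeriod_eq_one_iff_isFixedPt]
    show x • ((1 : G) : G ⧸ S) = ((1 : G) : G ⧸ S)
    rw [MulAction.Quotient.smul_coe, smul_eq_mul, mul_one, QuotientGroup.eq, mul_one]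
    exact inv_mem hxS
  let o : Quotient (MulAction.orbitRel (zpowers x) (G ⧸ S)) := Quotient.mk'' ((1 : G) : G ⧸ S)
  have hout : o.out = ((1 : G) : G ⧸ S) := by
    obtain ⟨⟨y, k, rfl⟩, hy⟩ := MulAction.orbitRel_apply.1
      (Quotient.exact' (Quotient.out_eq' o) : MulAction.orbitRel (zpowers x) (G ⧸ S) o.out _)
    rw [← hy]
    show x ^ k • ((1 : G) : G ⧸ S) = _
    rw [MulAction.Quotient.smul_coe, smul_eq_mul, mul_one, QuotientGroup.eq, mul_one]
    exact inv_mem (zpow_mem hxS k)
  have htrans : MonoidHom.transfer ϕ x = ϕ ⟨x, hxS⟩ := by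
    rw [MonoidHom.transfer_eq_prod_quotient_orbitRel_zpowers_quot, Finset.prod_eq_single o]
    · have hs : o.out.out ∈ S := by
        have h := QuotientGroup.eq.1 ((QuotientGroup.out_eq' o.out).trans hout)
        rw [mul_one] at h
        exact inv_mem_iff.1 h
      calc ϕ _ = ϕ (⟨o.out.out, hs⟩⁻¹ * ⟨x, hxS⟩ * ⟨o.out.out, hs⟩) := by
            congr 1
            refine Subtype.ext ?_
            simp only [hout, hperiod, pow_one, Subgroup.coe_mul, Subgroup.coe_inv]
        _ = ϕ ⟨x, hxS⟩ := by rw [map_mul, map_mul, map_inv, mul_comm, mul_inv_cancel_left]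
    · intro r _ hr
      set g := r.out.out with hgdef
      set l := Function.minimalPeriod (x • ·) r.out with hldef
      have hmem : g⁻¹ * x ^ l * g ∈ S := QuotientGroup.out_conj_pow_minimalPeriod_mem S x r.out
      show ϕ ⟨g⁻¹ * x ^ l * g, hmem⟩ = 1
      rw [QuotientGroup.mk'_apply, QuotientGroup.eq_one_iff, mem_subgroupOf]
      show g⁻¹ * x ^ l * g ∈ M
      have hl8 : l ∈ Nat.divisors 8 := by
        refine Nat.mem_divisors.2 ⟨Function.IsPeriodicPt.minimalPeriod_dvd ?_, by norm_num⟩
        show (x • ·)^[8] r.out = r.out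
        rw [smul_iterate, show x ^ 8 = x ^ 4 * x ^ 4 by group, hx4, htt]
        exact one_smul G _
      have hcom : Commute (x ^ l) (g * t * g⁻¹) := by
        have h2 : Commute (g * (g⁻¹ * x ^ l * g) * g⁻¹) (g * t * g⁻¹) :=
          ((hmemS _).1 hmem).map (MulAut.conj g).toMonoidHom
        rwa [show g * (g⁻¹ * x ^ l * g) * g⁻¹ = x ^ l by group] at h2
      have hsmall : ¬ Commute i (g * t * g⁻¹) := by
        intro hc
        have h := hCi (g * t * g⁻¹) (by rw [show g * t * g⁻¹ * (g * t * g⁻¹) = g * (t * t) * g⁻¹ by group, htt,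
          mul_one, mul_inv_cancel]) (fun h => ht1 (conj_eq_one_iff.1 h)) hc.symm
        have hgS : g ∈ S := (hmemS g).2 (mul_inv_eq_iff_eq_mul.1 h)
        refine hr ?_
        rw [← Quotient.out_eq' r]
        refine congrArg Quotient.mk'' ?_
        rw [← QuotientGroup.out_eq' r.out, QuotientGroup.eq, mul_one]
        exact inv_mem hgS
      have hall : ∀ j ∈ Nat.divisors 8, j = 1 ∨ j = 2 ∨ j = 4 ∨ j = 8 := by decide +kernel
      rcases hall l hl8 with h | h | h | h <;> rw [h] at hcom ⊢
      · rw [pow_one] at hcom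
        exact absurd (hxx ▸ hcom.mul_left hcom) hsmall
      · rw [pow_two, hxx] at hcom
        exact absurd hcom hsmall
      · refine hinvol _ (h ▸ hmem) ?_
        rw [hx4, show g⁻¹ * t * g * (g⁻¹ * t * g) = g⁻¹ * (t * t) * g by group, htt, mul_one, inv_mul_cancel]
      · rw [show x ^ 8 = x ^ 4 * x ^ 4 by group, hx4, htt, mul_one, inv_mul_cancel]
        exact one_mem M
    · exact fun h => absurd (Finset.mem_univ o) h
  have hne : MonoidHom.transfer ϕ x ≠ 1 := by
    rw [htrans, QuotientGroup.mk'_apply, Ne, QuotientGroup.eq_one_iff, mem_subgroupOf]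
    exact hxM
  rcases IsSimpleGroup.eq_bot_or_eq_top_of_normal (MonoidHom.transfer ϕ).ker inferInstance with h | h
  · refine hG ⟨⟨fun a b => ?_⟩⟩
    exact (MonoidHom.ker_eq_bot_iff _).1 h (by rw [map_mul, map_mul, mul_comm])
  · exact hne (MonoidHom.mem_ker.1 (h ▸ mem_top x))

end CfsgLib.SmallSimple.AtMost1092
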