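import Cfsg.Agent.Lib.SmallSimple.AtMost1092.Ten
import Cfsg.Agent.Lib.SmallSimple.AtMost1092.Quaternion

/-!
No simple group has order 720: the stabilizer of two of the ten Sylow 3-subgroups would be a quaternion
group.
-/

set_option autoImplicit false

namespace CfsgLib.SmallSimple.AtMost1092.Sev20

open Subgroup CfsgLib MulAction

variable {G : Type*} [Group G] [Finite G] [IsSimpleGroup G]

theorem toPermHom_injective (hG : ¬ IsMulCommutative G) (hn : Nat.card G = 720) :
    Function.Injective (MulAction.toPermHom G (Sylow 3 G)) := by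
  obtain ⟨P⟩ : Nonempty (Sylow 3 G) := inferInstance
  refine SmallGroups.toPermHom_injective_of_not_trivial ?_
  by_contra h
  push Not at h
  exact SmallGroups.normalizer_sylow_ne_top hG (by rw [hn]; norm_num) P
    (eq_top_iff.2 fun g _ => Sylow.smul_eq_iff_mem_normalizer.1 (h g P))

theorem smul_self (a : Sylow 3 G) (y : ↥(a : Subgroup G)) : (y : G) • a = a :=
  Sylow.smul_eq_iff_mem_normalizer.2 (Subgroup.le_normalizer y.2)

/-- A Sylow subgroup permutes the other nine regularly. -/
theorem regular (hG : ¬ IsMulCommutative G) (hn : Nat.card G = 720) {a b : Sylow 3 G} (hab : b ≠ a) :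
    (∀ y z : ↥(a : Subgroup G), (y : G) • b = (z : G) • b → y = z) ∧
      ∀ R : Sylow 3 G, R ≠ a → ∃ y : ↥(a : Subgroup G), (y : G) • b = R := by
  have hinj : ∀ y z : ↥(a : Subgroup G), (y : G) • b = (z : G) • b → y = z := by
    intro y z h
    have hw : ((z⁻¹ * y : ↥(a : Subgroup G)) : G) ∈ (a : Subgroup G) ⊓ (b : Subgroup G) := by
      rw [← a.2.inf_normalizer_sylow b]
      refine ⟨(z⁻¹ * y).2, Sylow.smul_eq_iff_mem_normalizer.1 ?_⟩
      rw [Subgroup.coe_mul, mul_smul, h, Subgroup.coe_inv, inv_smul_smul]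
    rw [inter_trivial hG hn hab, mem_bot] at hw
    exact (inv_mul_eq_one.1 (Subtype.ext hw : z⁻¹ * y = 1)).symm
  refine ⟨hinj, ?_⟩
  have hne : ∀ y : ↥(a : Subgroup G), (y : G) • b ≠ a := fun y h =>
    hab (smul_left_cancel (y : G) (h.trans (smul_self a y).symm))
  let e : ↥(a : Subgroup G) → {R : Sylow 3 G // R ≠ a} := fun y => ⟨(y : G) • b, hne y⟩
  have hcard : Nat.card {R : Sylow 3 G // R ≠ a} = 9 := by
    classical
    haveI := Fintype.ofFinite (Sylow 3 G)
    rw [Nat.card_eq_fintype_card, Fintype.card_subtype_compl, Fintype.card_subtype_eq,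
      ← Nat.card_eq_fintype_card, (card_sylow_three_eq hG hn a).1]
  have hbij : Function.Bijective e :=
    (fun h => h) ((Nat.bijective_iff_injective_and_card e).2
      ⟨fun y z h => hinj y z (congrArg Subtype.val h), by rw [card_sylow_three hn a, hcard]⟩)
  intro R hR
  obtain ⟨y, hy⟩ := hbij.2 ⟨R, hR⟩
  exact ⟨y, congrArg Subtype.val hy⟩

/-- Two points are fixed by a group of order eight. -/
theorem card_pair (hG : ¬ IsMulCommutative G) (hn : Nat.card G = 720) {a b : Sylow 3 G} (hab : b ≠ a) :
    Nat.card ↥(stabilizer G a ⊓ stabilizer G b) = 8 := by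
  obtain ⟨hinj, hsurj⟩ := regular hG hn hab
  have hN : Nat.card (stabilizer G a) = 72 := by
    rw [Sylow.stabilizer_eq_normalizer]; exact (card_sylow_three_eq hG hn a).2
  let e : ↥(a : Subgroup G) × ↥(stabilizer G a ⊓ stabilizer G b) → stabilizer G a :=
    fun p => ⟨(p.1 : G) * p.2, mul_mem (show (p.1 : G) ∈ stabilizer G a from smul_self a p.1) p.2.2.1⟩
  have hbij : Function.Bijective e := by
    constructor
    · rintro ⟨y, h⟩ ⟨z, k⟩ heq
      have heq' : (y : G) * h = z * k := congrArg Subtype.val heq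
      have hh : (h : G) • b = b := h.2.2
      have hk : (k : G) • b = b := k.2.2
      have hyz : y = z := hinj y z (by
        have := congrArg (fun g : G => g • b) heq'
        simpa [mul_smul, hh, hk] using this)
      subst hyz
      exact Prod.ext rfl (Subtype.ext (mul_left_cancel heq'))
    · intro g
      have hga : (g : G) • a = a := g.2
      have hgb : (g : G) • b ≠ a := fun h => hab (smul_left_cancel (g : G) (h.trans hga.symm))
      obtain ⟨y, hy⟩ := hsurj _ hgb
      refine ⟨⟨y, ⟨(y : G)⁻¹ * g, mem_inf.2 ⟨?_, ?_⟩⟩⟩, Subtype.ext (mul_inv_cancel_left (y : G) g)⟩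
      · show ((y : G)⁻¹ * g) • a = a
        rw [mul_smul, hga, inv_smul_eq_iff, smul_self a y]
      · show ((y : G)⁻¹ * g) • b = b
        rw [mul_smul, inv_smul_eq_iff, hy]
  have h := Nat.card_eq_of_bijective e hbij
  rw [Nat.card_prod, card_sylow_three hn a, hN] at h
  omega

/-- An involution fixing two points centralizes nothing in their Sylow subgroups. -/
theorem involution_free (hG : ¬ IsMulCommutative G) (hn : Nat.card G = 720) {a b : Sylow 3 G} (hab : b ≠ a)
    {g : G} (hg : g ∈ stabilizer G a ⊓ stabilizer G b) (hgg : g * g = 1) (hg1 : g ≠ 1)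
    {y : ↥(a : Subgroup G)} (hy : Commute g y) : y = 1 := by
  classical
  haveI := Fintype.ofFinite (Sylow 3 G)
  obtain ⟨hinj, hsurj⟩ := regular hG hn hab
  have hga : g • a = a := (mem_inf.1 hg).1
  have hgb : g • b = b := (mem_inf.1 hg).2
  have hgN : g ∈ normalizer ((a : Subgroup G) : Set G) := Sylow.smul_eq_iff_mem_normalizer.1 hga
  let σ := MulAction.toPermHom G (Sylow 3 G) g
  let C : Subgroup ↥(a : Subgroup G) := (centralizer ({g} : Set G)).subgroupOf (a : Subgroup G)
  have hmemC : ∀ z : ↥(a : Subgroup G), z ∈ C ↔ Commute g (z : G) := fun z => by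
    rw [mem_subgroupOf, mem_centralizer_singleton_iff]; exact ⟨fun h => h.symm, fun h => h.symm⟩
  have hmove : ∀ z : ↥(a : Subgroup G), σ ((z : G) • b) = (z : G) • b ↔ z ∈ C := by
    intro z
    have hconj : g • ((z : G) • b) = (g * (z : G) * g⁻¹) • b := by
      rw [← mul_smul]
      conv_rhs => rw [mul_smul, inv_smul_eq_iff.2 hgb.symm]
    rw [hmemC]
    constructor
    · intro h
      have h' : (g * (z : G) * g⁻¹) • b = (z : G) • b := hconj.symm.trans h
      have := congrArg Subtype.val
        (hinj ⟨g * (z : G) * g⁻¹, (mem_normalizer_iff.1 hgN _).1 z.2⟩ z h')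
      exact mul_inv_eq_iff_eq_mul.1 this
    · intro h
      show g • ((z : G) • b) = (z : G) • b
      rw [hconj, h.eq, mul_inv_cancel_right]
  have hsupp : σ.support.card + Nat.card C = 9 := by
    have h1 : σ.support.card = Nat.card {z : ↥(a : Subgroup G) // z ∉ C} := by
      rw [← Nat.card_eq_finsetCard]
      symm
      refine Nat.card_eq_of_bijective
        (fun z => (⟨(z.1 : G) • b, Equiv.Perm.mem_support.2 fun h => z.2 ((hmove z.1).1 h)⟩ : σ.support))
        ⟨fun z w h => Subtype.ext (hinj _ _ (congrArg (fun r : σ.support => r.1) h)), fun R => ?_⟩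
      have hRa : R.1 ≠ a := fun h => Equiv.Perm.mem_support.1 R.2 (h.symm ▸ hga)
      obtain ⟨z, hz⟩ := hsurj _ hRa
      exact ⟨⟨z, fun h => Equiv.Perm.mem_support.1 R.2 (hz ▸ (hmove z).2 h)⟩, Subtype.ext hz⟩
    haveI := Fintype.ofFinite ↥(a : Subgroup G)
    rw [h1, ← card_sylow_three hn a, Nat.card_eq_fintype_card, Nat.card_eq_fintype_card,
      Nat.card_eq_fintype_card, Fintype.card_subtype_compl]
    exact Nat.sub_add_cancel (Fintype.card_subtype_le _)
  have hC9 : Nat.card C ∈ Nat.divisors 9 :=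
    Nat.mem_divisors.2 ⟨card_sylow_three hn a ▸ card_subgroup_dvd_card C, by norm_num⟩
  have hs0 : σ.support.card ≠ 0 := by
    rw [Ne, Finset.card_eq_zero, Equiv.Perm.support_eq_empty_iff]
    intro h
    exact hg1 (toPermHom_injective hG hn (h.trans (map_one _).symm))
  have hs6 : σ.support.card ≠ 6 := by
    intro h6
    have h := InvolChar.LargeExtraTransfer.sign_of_sq σ (by rw [← map_mul, hgg, map_one])
    rw [SmallGroups.sign_eq_one_of_simple hG, h6] at h
    exact absurd h (by decide)
  have hall : ∀ j ∈ Nat.divisors 9, j = 1 ∨ j = 3 ∨ j = 9 := by decide +kernel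
  have hC1 : Nat.card C = 1 := by rcases hall _ hC9 with h | h | h <;> omega
  have hyC : y ∈ C := (hmemC y).2 hy
  rw [card_eq_one.1 hC1, mem_bot] at hyC
  exact hyC

/-- Nothing but the identity in a two-point stabilizer centralizes a point of the Sylow subgroup. -/
theorem pair_free (hG : ¬ IsMulCommutative G) (hn : Nat.card G = 720) {a b : Sylow 3 G} (hab : b ≠ a)
    {g : G} (hg : g ∈ stabilizer G a ⊓ stabilizer G b) (hg1 : g ≠ 1) {y : ↥(a : Subgroup G)}
    (hy : Commute g y) : y = 1 := by
  have ho : orderOf g ∈ Nat.divisors 8 := Nat.mem_divisors.2 ⟨by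
    rw [← card_pair hG hn hab, ← Subgroup.orderOf_mk (ha := hg)]
    exact _root_.orderOf_dvd_natCard _, by norm_num⟩
  have hall : ∀ j ∈ Nat.divisors 8, j ≠ 1 → j = 2 * (j / 2) ∧ 0 < j / 2 ∧ j / 2 < j := by decide +kernel
  obtain ⟨h2, hpos, hlt⟩ := hall _ ho (fun h => hg1 (orderOf_eq_one_iff.1 h))
  refine involution_free hG hn hab (pow_mem hg (orderOf g / 2)) ?_
    (pow_ne_one_of_lt_orderOf hpos.ne' hlt) (hy.pow_left _)
  rw [← pow_add, ← two_mul, ← h2, pow_orderOf_eq_one]

/-- A nontrivial element of a two-point stabilizer moves the other points. -/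
theorem semiregular (hG : ¬ IsMulCommutative G) (hn : Nat.card G = 720) {a b : Sylow 3 G} (hab : b ≠ a)
    {g : G} (hg : g ∈ stabilizer G a ⊓ stabilizer G b) (hg1 : g ≠ 1) {R : Sylow 3 G} (hR : g • R = R) :
    R = a ∨ R = b := by
  obtain ⟨hinj, hsurj⟩ := regular hG hn hab
  by_cases hRa : R = a
  · exact Or.inl hRa
  refine Or.inr ?_
  obtain ⟨y, hy⟩ := hsurj R hRa
  have hgb : g • b = b := (mem_inf.1 hg).2
  have hgN : g ∈ normalizer ((a : Subgroup G) : Set G) :=
    Sylow.smul_eq_iff_mem_normalizer.1 (mem_inf.1 hg).1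
  have h : (g * (y : G) * g⁻¹) • b = (y : G) • b := by
    rw [mul_smul, inv_smul_eq_iff.2 hgb.symm, mul_smul, hy, hR]
  have hc := congrArg Subtype.val (hinj ⟨g * (y : G) * g⁻¹, (mem_normalizer_iff.1 hgN _).1 y.2⟩ y h)
  have hy1 : y = 1 := pair_free hG hn hab hg hg1 (mul_inv_eq_iff_eq_mul.1 hc)
  rw [← hy, hy1, Subgroup.coe_one, one_smul]

/-- A two-point stabilizer has only one involution. -/
theorem involution_unique (hG : ¬ IsMulCommutative G) (hn : Nat.card G = 720) {a b : Sylow 3 G}
    (hab : b ≠ a) {g h : G} (hg : g ∈ stabilizer G a ⊓ stabilizer G b) (hgg : g * g = 1) (hg1 : g ≠ 1)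
    (hh : h ∈ stabilizer G a ⊓ stabilizer G b) (hhh : h * h = 1) (hh1 : h ≠ 1) : g = h := by
  haveI : IsMulCommutative ↥(a : Subgroup G) :=
    IsPGroup.isMulCommutative_of_card_eq_prime_sq (p := 3) (by rw [card_sylow_three hn]; rfl)
  have hinv : ∀ k ∈ stabilizer G a ⊓ stabilizer G b, k * k = 1 → k ≠ 1 →
      ∀ y : ↥(a : Subgroup G), k * (y : G) * k = (y : G)⁻¹ := by
    intro k hk hkk hk1 y
    have hki : k⁻¹ = k := inv_eq_of_mul_eq_one_right hkk
    have hmem : k * (y : G) * k ∈ (a : Subgroup G) := by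
      have := (mem_normalizer_iff.1 (Sylow.smul_eq_iff_mem_normalizer.1 (mem_inf.1 hk).1) (y : G)).1 y.2
      rwa [hki] at this
    have hz := involution_free hG hn hab hk hkk hk1
      (y := y * ⟨k * (y : G) * k, hmem⟩) (by
        show k * ((y : G) * (k * (y : G) * k)) = (y : G) * (k * (y : G) * k) * k
        have hc : (y : G) * (k * (y : G) * k) = (k * (y : G) * k) * (y : G) :=
          congrArg Subtype.val (mul_comm' y (⟨k * (y : G) * k, hmem⟩ : ↥(a : Subgroup G)))
        conv_lhs => rw [hc]
        rw [show k * (k * (y : G) * k * (y : G)) = (k * k) * (y : G) * k * (y : G) by simp only [mul_assoc],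
          hkk, one_mul, show (y : G) * (k * (y : G) * k) * k = (y : G) * k * (y : G) * (k * k) by
          simp only [mul_assoc], hkk, mul_one])
    exact (inv_eq_of_mul_eq_one_right (congrArg Subtype.val hz)).symm
  by_contra hne
  have hgh : g * h ≠ 1 := fun e => hne (by
    rw [← inv_eq_of_mul_eq_one_right e, inv_eq_of_mul_eq_one_right hgg])
  haveI : Nontrivial ↥(a : Subgroup G) :=
    Finite.one_lt_card_iff_nontrivial.1 (by rw [card_sylow_three hn]; norm_num)
  obtain ⟨y, hy⟩ := exists_ne (1 : ↥(a : Subgroup G))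
  refine hy (pair_free hG hn hab (mul_mem hg hh) hgh ?_)
  show g * h * (y : G) = (y : G) * (g * h)
  have h1 : g * (y : G)⁻¹ * g = (y : G) := by
    have := hinv g hg hgg hg1 y⁻¹
    rwa [Subgroup.coe_inv, inv_inv] at this
  calc g * h * (y : G) = g * (h * (y : G) * h) * (g * g) * h := by
        rw [hgg, mul_one]; simp only [mul_assoc, hhh, mul_one]
    _ = g * (y : G)⁻¹ * g * (g * h) := by rw [hinv h hh hhh hh1 y]; simp only [mul_assoc]
    _ = (y : G) * (g * h) := by rw [h1]

/-- Outside the centre a two-point stabilizer consists of elements of order four. -/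
theorem mul_self_eq (hG : ¬ IsMulCommutative G) (hn : Nat.card G = 720) {a b : Sylow 3 G}
    (hab : b ≠ a) {q t : G} (hq : q ∈ stabilizer G a ⊓ stabilizer G b)
    (ht : t ∈ stabilizer G a ⊓ stabilizer G b) (htt : t * t = 1) (ht1 : t ≠ 1) (hq1 : q ≠ 1) (hqt : q ≠ t) :
    q * q = t := by
  classical
  haveI := Fintype.ofFinite (Sylow 3 G)
  have ho : orderOf q ∈ Nat.divisors 8 := Nat.mem_divisors.2 ⟨by
    rw [← card_pair hG hn hab, ← Subgroup.orderOf_mk (ha := hq)]
    exact _root_.orderOf_dvd_natCard _, by norm_num⟩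
  have hall : ∀ j ∈ Nat.divisors 8, j = 1 ∨ j = 2 ∨ j = 4 ∨ j = 8 := by decide +kernel
  rcases hall _ ho with h | h | h | h
  · exact absurd (orderOf_eq_one_iff.1 h) hq1
  · exfalso
    refine hqt (involution_unique hG hn hab hq ?_ hq1 ht htt ht1)
    rw [← pow_two, ← h, pow_orderOf_eq_one]
  · refine involution_unique hG hn hab (mul_mem hq hq) ?_ ?_ ht htt ht1
    · rw [show q * q * (q * q) = q ^ 4 by simp only [pow_succ, pow_zero, one_mul, mul_assoc], ← h,
        pow_orderOf_eq_one]
    · rw [← pow_two]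
      exact pow_ne_one_of_lt_orderOf (by norm_num) (by rw [h]; norm_num)
  · exfalso
    let σ := MulAction.toPermHom G (Sylow 3 G) q
    have hσo : orderOf σ = 8 := by rw [orderOf_injective _ (toPermHom_injective hG hn), h]
    have hs : σ.support.card = 8 := by
      have hset : σ.support = Finset.univ \ {a, b} := by
        ext R
        simp only [Equiv.Perm.mem_support, Finset.mem_sdiff, Finset.mem_univ, true_and, Finset.mem_insert,
          Finset.mem_singleton, not_or]
        constructor
        · intro hR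
          exact ⟨fun e => hR (e ▸ (mem_inf.1 hq).1), fun e => hR (e ▸ (mem_inf.1 hq).2)⟩
        · rintro ⟨h1, h2⟩ hR
          exact (semiregular hG hn hab hq hq1 hR).elim h1 h2
      rw [hset, Finset.card_sdiff_of_subset (Finset.subset_univ _), Finset.card_univ,
        ← Nat.card_eq_fintype_card, (card_sylow_three_eq hG hn a).1, Finset.card_pair hab.symm]
    have h8 : 8 ∈ σ.cycleType := by
      by_contra h8
      have h4 : σ.cycleType.lcm ∣ 4 := Multiset.lcm_dvd.2 fun j hj => by
        have hj8 : j ∈ Nat.divisors 8 :=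
          Nat.mem_divisors.2 ⟨hσo ▸ Equiv.Perm.dvd_of_mem_cycleType hj, by norm_num⟩
        have hd : ∀ j ∈ Nat.divisors 8, j = 8 ∨ j ∣ 4 := by decide +kernel
        exact (hd j hj8).resolve_left fun e => h8 (e ▸ hj)
      rw [Equiv.Perm.lcm_cycleType, hσo] at h4
      exact absurd (Nat.le_of_dvd (by norm_num) h4) (by norm_num)
    obtain ⟨rest, hrest⟩ := Multiset.exists_cons_of_mem h8
    have hsum := Equiv.Perm.sum_cycleType σ
    rw [hrest, Multiset.sum_cons, hs] at hsum
    have h0 : rest = 0 := by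
      rw [Multiset.eq_zero_iff_forall_notMem]
      intro j hj
      have h2 : 2 ≤ j :=
        Equiv.Perm.two_le_of_mem_cycleType (σ := σ) (by rw [hrest]; exact Multiset.mem_cons_of_mem hj)
      have := Multiset.le_sum_of_mem hj
      omega
    have hsign := Equiv.Perm.sign_of_cycleType σ
    rw [SmallGroups.sign_eq_one_of_simple hG, hrest, h0] at hsign
    exact absurd hsign (by decide)

/-- No simple group has order 720. -/
theorem card_ne (hG : ¬ IsMulCommutative G) : Nat.card G ≠ 720 := by
  classical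
  intro hn
  haveI : Fact (Nat.Prime 2) := ⟨Nat.prime_two⟩
  haveI := Fintype.ofFinite (Sylow 3 G)
  obtain ⟨a⟩ : Nonempty (Sylow 3 G) := inferInstance
  have h10 : Fintype.card (Sylow 3 G) = 10 := by
    rw [← Nat.card_eq_fintype_card]; exact (card_sylow_three_eq hG hn a).1
  obtain ⟨b, hab⟩ : ∃ b, b ≠ a := by
    haveI : Nontrivial (Sylow 3 G) := Fintype.one_lt_card_iff_nontrivial.1 (by omega)
    exact exists_ne a
  obtain ⟨c, hca, hcb⟩ : ∃ c, c ≠ a ∧ c ≠ b := by
    by_contra hall
    push Not at hall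
    have hsub : (Finset.univ : Finset (Sylow 3 G)) ⊆ {a, b} := fun R _ => by
      simp only [Finset.mem_insert, Finset.mem_singleton]
      by_cases h : R = a
      · exact Or.inl h
      · exact Or.inr (hall R h)
    have := (Finset.card_le_card hsub).trans Finset.card_le_two
    rw [Finset.card_univ] at this
    omega
  set Q := stabilizer G a ⊓ stabilizer G b with hQdef
  obtain ⟨t, ht⟩ := exists_prime_orderOf_dvd_card' (G := Q) 2 (by rw [card_pair hG hn hab]; norm_num)
  have htt : (t : G) * t = 1 := by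
    rw [← pow_two, ← ht, ← Subgroup.orderOf_coe, pow_orderOf_eq_one]
  have ht1 : (t : G) ≠ 1 := fun h => by
    rw [← Subgroup.orderOf_coe, h, orderOf_one] at ht; omega
  have hta : (t : G) • a = a := (mem_inf.1 t.2).1
  have htb : (t : G) • b = b := (mem_inf.1 t.2).2
  set c' := (t : G) • c with hc'def
  have htc' : (t : G) • c' = c := by rw [hc'def, ← mul_smul, htt, one_smul]
  have hcc' : c' ≠ c := fun h => (semiregular hG hn hab t.2 ht1 h).elim hca hcb
  -- an involution fixing the pair `c, t • c`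
  obtain ⟨g, hga, hgb⟩ : ∃ g : G, g • a = c ∧ g • b = c' := by
    obtain ⟨g1, hg1⟩ := exists_smul_eq G a c
    have hne : g1⁻¹ • c' ≠ a := fun h => hcc' (by rw [← hg1, ← h, smul_inv_smul])
    obtain ⟨y, hy⟩ := (regular hG hn hab).2 _ hne
    exact ⟨g1 * y, by rw [mul_smul, smul_self a y, hg1], by rw [mul_smul, hy, smul_inv_smul]⟩
  obtain ⟨u, hudef⟩ : ∃ u, u = g * (t : G) * g⁻¹ := ⟨_, rfl⟩
  have hu : u * u = 1 := by
    rw [hudef, show g * (t : G) * g⁻¹ * (g * t * g⁻¹) = g * (t * t) * g⁻¹ by group, htt, mul_one,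
      mul_inv_cancel]
  have hu1 : u ≠ 1 := fun h => ht1 (by rw [hudef] at h; exact conj_eq_one_iff.1 h)
  have huc : u ∈ stabilizer G c ⊓ stabilizer G c' := by
    refine mem_inf.2 ⟨?_, ?_⟩
    · show u • c = c
      rw [hudef, mul_smul, mul_smul, inv_smul_eq_iff.2 hga.symm, hta, hga]
    · show u • c' = c'
      rw [hudef, mul_smul, mul_smul, inv_smul_eq_iff.2 hgb.symm, htb, hgb]
  have hfixu : ∀ R, u • R = R → R = c ∨ R = c' := fun R hR => semiregular hG hn hcc' huc hu1 hR
  have htinv : (t : G)⁻¹ = t := inv_eq_of_mul_eq_one_right htt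
  have hut : Commute u (t : G) := by
    have hmem : (t : G) * u * t ∈ stabilizer G c ⊓ stabilizer G c' := by
      refine mem_inf.2 ⟨?_, ?_⟩
      · show ((t : G) * u * t) • c = c
        rw [mul_smul, mul_smul, ← hc'def, (mem_inf.1 huc).2, htc']
      · show ((t : G) * u * t) • c' = c'
        rw [mul_smul, mul_smul, htc', (mem_inf.1 huc).1]
    have h := involution_unique hG hn hcc' hmem
      (by rw [show (t : G) * u * t * (t * u * t) = t * u * (t * t) * (u * t) by simp only [mul_assoc], htt,
        mul_one, mul_assoc, ← mul_assoc u, hu, one_mul, htt])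
      (fun h => hu1 (by
        have h' := eq_mul_inv_of_mul_eq h
        rw [one_mul, htinv] at h'
        have h'' := mul_left_cancel (h'.trans (mul_one _).symm)
        exact h'')) huc hu hu1
    show u * (t : G) = t * u
    conv_lhs => rw [← h]
    rw [mul_assoc, htt, mul_one]
  have hua : u • a = b := by
    have h : (t : G) • (u • a) = u • a := by rw [← mul_smul, ← hut.eq, mul_smul, hta]
    rcases semiregular hG hn hab t.2 ht1 h with h | h
    · exfalso
      rcases hfixu a h with h' | h'
      · exact hca h'.symm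
      · exact hca (by rw [← htc', ← h', hta])
    · exact h
  have hub : u • b = a := by rw [← hua, ← mul_smul, hu, one_smul]
  refine no_quaternion_centralizer hG Q (card_pair hG hn hab) t.2 ht1 htt
    (fun q hq hq1 hqt => mul_self_eq hG hn hab hq t.2 htt ht1 hq1 hqt) hu
    (fun h => hab (hua ▸ (mem_inf.1 h).1)) ?_ hut ?_ ?_
  · intro q hq
    refine mem_inf.2 ⟨?_, ?_⟩
    · show (u * q * u) • a = a
      rw [mul_smul, hua, mul_smul, (mem_inf.1 hq).2, hub]
    · show (u * q * u) • b = b
      rw [mul_smul, hub, mul_smul, (mem_inf.1 hq).1, hua]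
  · intro q hq hc
    have h : u • (q • c) = q • c := by rw [← mul_smul, hc.eq, mul_smul, (mem_inf.1 huc).1]
    rcases hfixu _ h with h | h
    · by_contra hne
      push Not at hne
      exact (semiregular hG hn hab hq hne.1 h).elim hca hcb
    · refine Or.inr ?_
      have h2 : ((t : G) * q) • c = c := by rw [mul_smul, h, htc']
      by_contra hne
      refine (semiregular hG hn hab (mul_mem t.2 hq) (fun e => hne ?_) h2).elim hca hcb
      rw [← inv_eq_of_mul_eq_one_right e, htinv]
  · intro k hk
    have h : (t : G) • (k • a) = k • a := by rw [← mul_smul, ← hk.eq, mul_smul, hta]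
    have hb' : ∀ m : G, Commute m (t : G) → m • a = a → m ∈ Q := fun m hm hma => by
      refine mem_inf.2 ⟨hma, ?_⟩
      have h' : (t : G) • (m • b) = m • b := by rw [← mul_smul, ← hm.eq, mul_smul, htb]
      rcases semiregular hG hn hab t.2 ht1 h' with e | e
      · exact absurd (smul_left_cancel m (e.trans hma.symm)) hab
      · exact e
    rcases semiregular hG hn hab t.2 ht1 h with e | e
    · exact Or.inl (hb' k hk e)
    · exact Or.inr (hb' (u * k) (hut.mul_left hk) (by rw [mul_smul, e, hub]))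

end CfsgLib.SmallSimple.AtMost1092.Sev20
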