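import Cfsg.Agent.Lib.SmallSimple.AtMost1092.Local

/-!
The orders 420, 756, 840 and 960.
-/

set_option autoImplicit false

namespace CfsgLib.SmallSimple.AtMost1092

open Subgroup CfsgLib

variable {G : Type*} [Group G] [Finite G] [IsSimpleGroup G]

/-- An involutive permutation moves an even number of points. -/
theorem even_card_support {α : Type*} [Fintype α] [DecidableEq α] {σ : Equiv.Perm α} (h : σ * σ = 1) :
    2 ∣ σ.support.card := by
  by_cases h1 : σ = 1
  · simp [h1]
  have ho : orderOf σ = 2 := orderOf_eq_prime (by rw [sq, h]) h1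
  obtain ⟨j, hj⟩ := Equiv.Perm.cycleType_prime_order (σ := σ) (ho ▸ Nat.prime_two)
  rw [← Equiv.Perm.sum_cycleType, hj, ho, Multiset.sum_replicate, smul_eq_mul]
  exact dvd_mul_left 2 _

/-- No simple group of order `7 * m` has fifteen Sylow `7`-subgroups with centralizer of even order. -/
theorem not_fifteen (hG : ¬ IsMulCommutative G) [Fact (Nat.Prime 7)] {m : ℕ} (hn : Nat.card G = 7 * m)
    (hm : ¬ 7 ∣ m) (hk : Nat.card (Sylow 7 G) = 15) (P : Sylow 7 G) {t : G} (ht : orderOf t = 2)
    (htC : t ∈ centralizer ((P : Subgroup G) : Set G)) : False := by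
  classical
  haveI := Fintype.ofFinite (Sylow 7 G)
  have hcard : Nat.card (P : Subgroup G) = 7 := by
    simpa using SmallGroups.card_sylow_eq (a := 1) (by rw [pow_one, hn]) hm P
  obtain ⟨x, hx⟩ := exists_prime_orderOf_dvd_card' (G := (P : Subgroup G)) 7 (by rw [hcard])
  have hxP : zpowers (x : G) = (P : Subgroup G) :=
    eq_of_le_of_card_ge ((zpowers_le).2 x.2) (by rw [hcard, Nat.card_zpowers, Subgroup.orderOf_coe, hx])
  let f := MulAction.toPermHom G (Sylow 7 G)
  have hd : 7 ∣ Nat.card G := hn ▸ dvd_mul_right 7 m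
  have hinj : Function.Injective f := by
    refine SmallGroups.toPermHom_injective_of_not_trivial ?_
    by_contra h
    push Not at h
    exact SmallGroups.normalizer_sylow_ne_top hG hd P
      (eq_top_iff.2 fun g _ => Sylow.smul_eq_iff_mem_normalizer.1 (h g P))
  have htt : f t * f t = 1 := by rw [← map_mul, ← pow_two, ← ht, pow_orderOf_eq_one, map_one]
  have hτ : f (x : G) ^ 7 = 1 := by
    have h1 : (x : G) ^ 7 = 1 := by
      have h2 := pow_orderOf_eq_one (x : G)
      rwa [Subgroup.orderOf_coe, hx] at h2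
    rw [← map_pow, h1, map_one]
  have huniq : ∀ R, f (x : G) R = R → R = P := by
    intro R hR
    have h1 : zpowers (x : G) ≤ normalizer ((R : Subgroup G) : Set G) :=
      (zpowers_le).2 (Sylow.smul_eq_iff_mem_normalizer.1 hR)
    rw [hxP] at h1
    exact (SmallGroups.sylow_eq_of_normalizes P R h1).symm
  have hσ : f t P = P := Sylow.smul_eq_iff_mem_normalizer.2 (centralizer_le_normalizer _ htC)
  have hc : Commute (f t) (f (x : G)) := by
    refine Commute.map ?_ f
    exact (mem_centralizer_iff.1 htC _ x.2).symm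
  have h7 := dvd_card_support hτ huniq hσ hc
  have h2 := even_card_support htt
  have hle : (f t).support.card ≤ 15 := by
    rw [← hk, Nat.card_eq_fintype_card]; exact Finset.card_le_univ _
  have hne : (f t).support.card ≠ 0 := by
    intro h0
    rw [Finset.card_eq_zero, Equiv.Perm.support_eq_empty_iff, ← map_one f] at h0
    rw [hinj h0, orderOf_one] at ht
    exact absurd ht (by decide)
  have h14 : (f t).support.card = 14 := by omega
  have hsign := InvolChar.LargeExtraTransfer.sign_of_sq (f t) htt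
  rw [SmallGroups.sign_eq_one_of_simple hG f t, h14] at hsign
  exact absurd hsign (by decide)

/-- Orders 420 and 840. -/
theorem card_ne_seven_mul (hG : ¬ IsMulCommutative G) {m : ℕ} (hm : m = 60 ∨ m = 120) :
    Nat.card G ≠ 7 * m := by
  intro hn
  haveI : Fact (Nat.Prime 7) := ⟨by norm_num⟩
  haveI : Fact (Nat.Prime 2) := ⟨Nat.prime_two⟩
  have hm7 : ¬ 7 ∣ m := by rcases hm with rfl | rfl <;> decide
  obtain ⟨P⟩ : Nonempty (Sylow 7 G) := inferInstance
  obtain ⟨k, c, hk, hk1, hkp, hkc, hN, -⟩ :=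
    sylow_data hG (a := 1) (by rw [pow_one, hn]) hm7 one_ne_zero P
  rw [pow_one] at hN
  have hkd : k ∣ m := ⟨c, hkc.symm⟩
  have hk8 : k ≠ 8 := by
    rintro rfl
    rcases order_of_succ hG hn hm7 hk with h | h <;> rcases hm with rfl | rfl <;> omega
  have hc1 : c ≠ 1 := by
    rintro rfl
    exact normalizer_ne_self hG (a := 1) (by rw [pow_one, hn]) hm7 one_ne_zero (by norm_num) P
      (by rw [hN, mul_one, pow_one])
  have hk15 : k = 15 := by
    rcases hm with rfl | rfl
    · have hkm : k ∈ Nat.divisors 60 := Nat.mem_divisors.2 ⟨hkd, by norm_num⟩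
      have : ∀ j ∈ Nat.divisors 60, j % 7 = 1 → j ≠ 1 → j = 15 := by decide +kernel
      exact this k hkm hkp hk1
    · have hkm : k ∈ Nat.divisors 120 := Nat.mem_divisors.2 ⟨hkd, by norm_num⟩
      have : ∀ j ∈ Nat.divisors 120, j % 7 = 1 → j ≠ 1 → j ≠ 8 → j = 15 ∨ j = 120 := by decide +kernel
      rcases this k hkm hkp hk1 hk8 with h | h
      · exact h
      · exact absurd (Nat.eq_of_mul_eq_mul_left (show 0 < 120 by norm_num)
          (by rw [mul_one]; exact h ▸ hkc : 120 * c = 120 * 1)) hc1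
  subst hk15
  obtain ⟨r, e, hr, hr1, hre, hC⟩ := prime_data hG hn hm7 P hN
  have hr6 : r ∈ Nat.divisors 6 := Nat.mem_divisors.2 ⟨hr, by norm_num⟩
  have he : 2 ∣ e := by
    have h6 : ∀ j ∈ Nat.divisors 6, j = 1 ∨ j = 2 ∨ j = 3 ∨ j = 6 := by decide +kernel
    rcases h6 r hr6 with rfl | rfl | rfl | rfl <;> rcases hm with rfl | rfl <;> omega
  obtain ⟨t, ht⟩ := exists_prime_orderOf_dvd_card' (G := centralizer ((P : Subgroup G) : Set G)) 2
    (hC ▸ dvd_mul_of_dvd_right he 7)
  exact not_fifteen hG hn hm7 hk P (t := (t : G)) (by rw [Subgroup.orderOf_coe, ht]) t.2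

/-- Order 756. -/
theorem card_ne_756 (hG : ¬ IsMulCommutative G) : Nat.card G ≠ 756 := by
  intro hn
  haveI : Fact (Nat.Prime 3) := ⟨by norm_num⟩
  obtain ⟨P⟩ : Nonempty (Sylow 3 G) := inferInstance
  obtain ⟨k, c, hk, hk1, hkp, hkc, hN, hfac⟩ :=
    sylow_data hG (p := 3) (a := 3) (m := 28) (by rw [hn]; rfl) (by decide) (by norm_num) P
  have hkm : k ∈ Nat.divisors 28 := Nat.mem_divisors.2 ⟨⟨c, hkc.symm⟩, by norm_num⟩
  have hdiv : ∀ j ∈ Nat.divisors 28, j % 3 = 1 → j ≠ 1 → j = 28 ∨ j = 7 ∨ j = 4 := by decide +kernel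
  rw [hn] at hfac
  rcases hdiv k hkm hkp hk1 with rfl | rfl | rfl
  · obtain rfl : c = 1 := by omega
    have hcard : Nat.card (P : Subgroup G) = 3 ^ 3 :=
      SmallGroups.card_sylow_eq (m := 28) (by rw [hn]; rfl) (by decide) P
    have hN' : normalizer ((P : Subgroup G) : Set G) = (P : Subgroup G) :=
      (eq_of_le_of_card_ge Subgroup.le_normalizer (by rw [hN, hcard, mul_one])).symm
    refine not_selfNormalizing hG (by norm_num) P (r := 7) (by norm_num) (by norm_num)
      (hn ▸ by norm_num) (fun h => ?_) ?_ hN'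
    · rw [h, card_bot] at hcard; exact absurd hcard (by norm_num)
    · intro u v
      exact commutator_le_center_of_card_cube P.2 hcard u v
  · exact absurd (Nat.mod_eq_zero_of_dvd hfac) (by decide)
  · exact absurd (Nat.mod_eq_zero_of_dvd hfac) (by decide)
where
  commutator_le_center_of_card_cube {Q : Subgroup G} (hQ : IsPGroup 3 Q) (hcard : Nat.card Q = 3 ^ 3)
      (u v : ↥Q) : u⁻¹ * v⁻¹ * u * v ∈ center ↥Q := by
    haveI : Fact (Nat.Prime 3) := ⟨by norm_num⟩
    haveI : Nontrivial ↥Q := Finite.one_lt_card_iff_nontrivial.1 (by rw [hcard]; norm_num)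
    haveI := hQ.center_nontrivial
    obtain ⟨i, hi⟩ := (hQ.to_subgroup (center ↥Q)).exists_card_eq
    have hi0 : i ≠ 0 := fun h => by
      have := Finite.one_lt_card_iff_nontrivial.2 (inferInstance : Nontrivial ↥(center ↥Q))
      rw [hi, h, pow_zero] at this; omega
    have hidx := card_mul_index (center ↥Q)
    rw [hi, hcard] at hidx
    have hle : i ≤ 3 := (Nat.pow_dvd_pow_iff_le_right (by norm_num)).1 (hidx ▸ dvd_mul_right _ _)
    have hq : Nat.card (↥Q ⧸ center ↥Q) ∣ 3 ^ 2 := by
      rw [← index]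
      interval_cases i
      · exact absurd rfl hi0
      · exact ⟨1, by omega⟩
      · exact ⟨3, by omega⟩
      · exact ⟨9, by omega⟩
    haveI hcomm : IsMulCommutative (↥Q ⧸ center ↥Q) := by
      obtain ⟨j, hj, hj'⟩ := (Nat.dvd_prime_pow (by norm_num : Nat.Prime 3)).1 hq
      interval_cases j
      · haveI := (Nat.card_eq_one_iff_unique.1 hj').1
        exact ⟨⟨fun a b => Subsingleton.elim _ _⟩⟩
      · haveI := isCyclic_of_prime_card (by simpa using hj')
        exact IsCyclic.isMulCommutative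
      · exact IsPGroup.isMulCommutative_of_card_eq_prime_sq hj'
    rw [← QuotientGroup.eq_one_iff, QuotientGroup.mk_mul, QuotientGroup.mk_mul, QuotientGroup.mk_mul,
      QuotientGroup.mk_inv, QuotientGroup.mk_inv, mul_assoc ((u : ↥Q ⧸ center ↥Q)⁻¹ * (v : ↥Q ⧸ center ↥Q)⁻¹),
      mul_comm' (u : ↥Q ⧸ center ↥Q) (v : ↥Q ⧸ center ↥Q)]
    group

/-- Order 960. -/
theorem card_ne_960 (hG : ¬ IsMulCommutative G) : Nat.card G ≠ 960 := by
  intro hn
  haveI : Fact (Nat.Prime 2) := ⟨Nat.prime_two⟩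
  obtain ⟨P⟩ : Nonempty (Sylow 2 G) := inferInstance
  obtain ⟨k, c, hk, hk1, hkp, hkc, hN, hfac⟩ :=
    sylow_data hG (p := 2) (a := 6) (m := 15) (by rw [hn]; rfl) (by decide) (by norm_num) P
  have hcard : Nat.card (P : Subgroup G) = 2 ^ 6 :=
    SmallGroups.card_sylow_eq (m := 15) (by rw [hn]; rfl) (by decide) P
  have hkm : k ∈ Nat.divisors 15 := Nat.mem_divisors.2 ⟨⟨c, hkc.symm⟩, by norm_num⟩
  have hdiv : ∀ j ∈ Nat.divisors 15, j ≠ 1 → j = 15 ∨ j = 5 ∨ j = 3 := by decide +kernel
  rw [hn] at hfac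
  rcases hdiv k hkm hk1 with rfl | rfl | rfl
  · obtain ⟨Q, hQ, hD⟩ := exists_inter_of_mod P (by rw [hk]; decide)
    set D := (P : Subgroup G) ⊓ (Q : Subgroup G) with hDdef
    have hP := le_normalizer_inter hD
    have hQc : Nat.card (Q : Subgroup G) = Nat.card (P : Subgroup G) := by
      rw [Q.card_eq_multiplicity, P.card_eq_multiplicity]
    have hQn : (Q : Subgroup G) ≤ normalizer (D : Set G) := by
      have := le_normalizer_inter (P := Q) (Q := P) (by rw [inf_comm, ← hDdef, hD, hQc])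
      rwa [inf_comm] at this
    set X := normalizer (D : Set G) with hX
    obtain ⟨hdvd, hne⟩ := card_ne_of_two_sylow hQ hP hQn
    have htop : X = ⊤ := by
      refine eq_top_of_not_dvd hG ?_
      rw [hn]
      have hmul := card_mul_index X
      rw [hn] at hmul
      obtain ⟨d, hd⟩ := hdvd
      rw [hcard] at hd hne
      rw [hd, mul_assoc] at hmul
      have hd15 : d * X.index = 15 := by omega
      have hi : X.index ∈ Nat.divisors 15 := Nat.mem_divisors.2 ⟨⟨d, by linarith⟩, by norm_num⟩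
      intro hf
      have hall : ∀ j ∈ Nat.divisors 15, j = 15 ∨ j.factorial % (2 * 960) ≠ 0 := by decide +kernel
      rcases hall _ hi with h | h
      · rw [h] at hd15
        exact hne (by rw [hd]; omega)
      · exact h (Nat.mod_eq_zero_of_dvd hf)
    have hn' : D.Normal := normalizer_eq_top_iff.1 htop
    rcases IsSimpleGroup.eq_bot_or_eq_top_of_normal D hn' with h | h
    · rw [h, card_bot, hcard] at hD; omega
    · rw [h, card_top, hn, hcard] at hD; omega
  · exact absurd (Nat.mod_eq_zero_of_dvd hfac) (by decide)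
  · exact absurd (Nat.mod_eq_zero_of_dvd hfac) (by decide)

end CfsgLib.SmallSimple.AtMost1092
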