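import Cfsg.Agent.Lib.SmallSimple.AtMost1092.Check

/-!
A witness for each order up to 1092.
-/

set_option autoImplicit false

namespace CfsgLib.SmallSimple.AtMost1092

/-- Witnesses from 2 on. -/
def table0 : List Wit := [.two 2 1 2 0, .two 3 1 3 0, .two 2 2 2 0, .two 5 1 5 0, .two 2 1 3 1, .two 7 1 7 0, .two 2 3 2 0, .two 3 2 3 0, .two 2 1 5 1, .two 11 1 11 0, .two 2 2 3 1, .two 13 1 13 0, .two 2 1 7 1, .two 3 1 5 1, .two 2 4 2 0, .two 17 1 17 0, .two 2 1 3 2, .two 19 1 19 0, .two 2 2 5 1, .two 3 1 7 1, .two 2 1 11 1, .two 23 1 23 0, .two 2 3 3 1, .two 5 2 5 0, .two 2 1 13 1, .two 3 3 3 0, .two 2 2 7 1, .two 29 1 29 0, .least 2, .two 31 1 31 0, .two 2 5 2 0, .two 3 1 11 1, .two 2 1 17 1, .two 5 1 7 1, .two 2 2 3 2, .two 37 1 37 0, .two 2 1 19 1, .two 3 1 13 1, .two 2 3 5 1, .two 41 1 41 0, .least 2, .two 43 1 43 0, .two 2 2 11 1, .two 3 2 5 1, .two 2 1 23 1, .two 47 1 47 0, .two 2 4 3 1, .two 7 2 7 0, .two 2 1 5 2, .two 3 1 17 1, .two 2 2 13 1, .two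 53 1 53 0, .two 2 1 3 3, .two 5 1 11 1, .two 2 3 7 1, .two 3 1 19 1, .two 2 1 29 1, .two 59 1 59 0, .skip, .two 61 1 61 0]

theorem table0_ok : checkFrom 2 table0 = true := by decide +kernel

theorem table0_length : table0.length = 60 := rfl

/-- Witnesses from 62 on. -/
def table1 : List Wit := [.two 2 1 31 1, .two 3 2 7 1, .two 2 6 2 0, .two 5 1 13 1, .least 2, .two 67 1 67 0, .two 2 2 17 1, .two 3 1 23 1, .least 2, .two 71 1 71 0, .two 2 3 3 2, .two 73 1 73 0, .two 2 1 37 1, .two 3 1 5 2, .two 2 2 19 1, .two 7 1 11 1, .least 2, .two 79 1 79 0, .two 2 4 5 1, .two 3 4 3 0, .two 2 1 41 1, .two 83 1 83 0, .sylow 7 1 12 2 2 3 1, .two 5 1 17 1, .two 2 1 43 1, .two 3 1 29 1, .two 2 3 11 1, .two 89 1 89 0, .least 2, .two 7 1 13 1, .two 2 2 23 1, .two 3 1 31 1, .two 2 1 47 1, .two 5 1 19 1, .two 2 5 3 1, .two 97 1 97 0, .two 2 1 7 2, .two 3 2 11 1, .two 2 2 5 2, .two 101 1 101 0, .least 2, .two 103 1 103 0, .two 2 3 13 1, .least 3, .two 2 1 53 1, .two 107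 1 107 0, .two 2 2 3 3, .two 109 1 109 0, .least 2, .two 3 1 37 1, .two 2 4 7 1, .two 113 1 113 0, .least 2, .two 5 1 23 1, .two 2 2 29 1, .two 3 2 13 1, .two 2 1 59 1, .two 7 1 17 1, .sylow 5 1 24 2 3 3 1, .two 11 2 11 0]

theorem table1_ok : checkFrom 62 table1 = true := by decide +kernel

theorem table1_length : table1.length = 60 := rfl

/-- Witnesses from 122 on. -/
def table2 : List Wit := [.two 2 1 61 1, .two 3 1 41 1, .two 2 2 31 1, .two 5 3 5 0, .least 2, .two 127 1 127 0, .two 2 7 2 0, .two 3 1 43 1, .least 2, .two 131 1 131 0, .sylow 11 1 12 2 2 3 1, .two 7 1 19 1, .two 2 1 67 1, .two 3 3 5 1, .two 2 3 17 1, .two 137 1 137 0, .least 2, .two 139 1 139 0, .least 2, .two 3 1 47 1, .two 2 1 71 1, .two 11 1 13 1, .two 2 4 3 2, .two 5 1 29 1, .two 2 1 73 1, .two 3 1 7 2, .two 2 2 37 1, .two 149 1 149 0, .least 2, .two 151 1 151 0, .two 2 3 19 1, .two 3 2 17 1, .least 2, .two 5 1 31 1, .sylow 13 1 12 2 2 3 1, .two 157 1 157 0, .two 2 1 79 1, .two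 3 1 53 1, .two 2 5 5 1, .two 7 1 23 1, .two 2 1 3 4, .two 163 1 163 0, .two 2 2 41 1, .least 3, .two 2 1 83 1, .two 167 1 167 0, .skip, .two 13 2 13 0, .least 2, .two 3 2 19 1, .two 2 2 43 1, .two 173 1 173 0, .least 2, .two 5 2 7 1, .two 2 4 11 1, .two 3 1 59 1, .two 2 1 89 1, .two 179 1 179 0, .sylow 5 1 36 2 2 3 2, .two 181 1 181 0]

theorem table2_ok : checkFrom 122 table2 = true := by decide +kernel

theorem table2_length : table2.length = 60 := rfl

/-- Witnesses from 182 on. -/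
def table3 : List Wit := [.least 2, .two 3 1 61 1, .two 2 3 23 1, .two 5 1 37 1, .least 2, .two 11 1 17 1, .two 2 2 47 1, .two 3 3 7 1, .least 2, .two 191 1 191 0, .two 2 6 3 1, .two 193 1 193 0, .two 2 1 97 1, .least 3, .two 2 2 7 2, .two 197 1 197 0, .least 2, .two 199 1 199 0, .two 2 3 5 2, .two 3 1 67 1, .two 2 1 101 1, .two 7 1 29 1, .sylow 17 1 12 2 2 3 1, .two 5 1 41 1, .two 2 1 103 1, .two 3 2 23 1, .two 2 4 13 1, .two 11 1 19 1, .least 2, .two 211 1 211 0, .two 2 2 53 1, .two 3 1 71 1, .two 2 1 107 1, .two 5 1 43 1, .two 2 3 3 3, .two 7 1 31 1, .two 2 1 109 1, .two 3 1 73 1, .least 2, .two 13 1 17 1, .least 2, .two 223 1 223 0, .two 2 5 7 1, .two 3 2 5 2, .two 2 1 113 1, .two 227 1 227 0, .sylow 19 1 12 2 2 3 1, .two 229 1 229 0, .least 2, .least 3, .two 2 3 29 1, .two 233 1 233 0, .least 2, .two 5 1 47 1, .two 2 2 59 1, .two 3 1 79 1, .least 2, .two 239 1 239 0, .sylow 5 1 48 2 4 3 1, .two 241 1 241 0]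

theorem table3_ok : checkFrom 182 table3 = true := by decide +kernel

theorem table3_length : table3.length = 60 := rfl

/-- Witnesses from 242 on. -/
def table4 : List Wit := [.two 2 1 11 2, .two 3 5 3 0, .two 2 2 61 1, .two 5 1 7 2, .least 2, .two 13 1 19 1, .two 2 3 31 1, .two 3 1 83 1, .two 2 1 5 3, .two 251 1 251 0, .sylow 7 1 36 2 2 3 2, .two 11 1 23 1, .two 2 1 127 1, .least 3, .two 2 8 2 0, .two 257 1 257 0, .least 2, .two 7 1 37 1, .least 2, .two 3 2 29 1, .two 2 1 131 1, .two 263 1 263 0, .sylow 11 1 24 2 3 3 1, .two 5 1 53 1, .least 2, .two 3 1 89 1, .two 2 2 67 1, .two 269 1 269 0, .least 2, .two 271 1 271 0, .two 2 4 17 1, .least 3, .two 2 1 137 1, .two 5 2 11 1, .sylow 23 1 12 2 2 3 1, .two 277 1 277 0, .two 2 1 139 1, .two 3 2 31 1, .sylow 7 1 40 2 3 5 1, .two 281 1 281 0, .least 2, .two 283 1 283 0, .two 2 2 71 1, .least 3, .least 2, .two 7 1 41 1, .two 2 5 3 2, .two 17 2 17 0, .least 2, .two 3 1 97 1, .two 2 2 73 1, .two 293 1 293 0,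 .least 2, .two 5 1 59 1, .two 2 3 37 1, .two 3 3 11 1, .two 2 1 149 1, .two 13 1 23 1, .sylow 5 2 12 0 0 0 0, .two 7 1 43 1]

theorem table4_ok : checkFrom 242 table4 = true := by decide +kernel

theorem table4_length : table4.length = 60 := rfl

/-- Witnesses from 302 on. -/
def table5 : List Wit := [.two 2 1 151 1, .two 3 1 101 1, .two 2 4 19 1, .two 5 1 61 1, .least 2, .two 307 1 307 0, .least 2, .two 3 1 103 1, .least 2, .two 311 1 311 0, .sylow 13 1 24 2 3 3 1, .two 313 1 313 0, .two 2 1 157 1, .least 3, .two 2 2 79 1, .two 317 1 317 0, .least 2, .two 11 1 29 1, .two 2 6 5 1, .two 3 1 107 1, .least 2, .two 17 1 19 1, .two 2 2 3 4, .two 5 2 13 1, .two 2 1 163 1, .two 3 1 109 1, .two 2 3 41 1, .two 7 1 47 1, .least 2, .two 331 1 331 0, .two 2 2 83 1, .two 3 2 37 1, .two 2 1 167 1, .two 5 1 67 1, .sylow 7 1 48 2 4 3 1, .two 337 1 337 0, .two 2 1 13 2, .two 3 1 113 1, .least 2, .two 11 1 31 1, .least 2, .two 7 3 7 0, .two 2 3 43 1, .least 3, .two 2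 1 173 1, .two 347 1 347 0, .sylow 29 1 12 2 2 3 1, .two 349 1 349 0, .least 2, .two 3 3 13 1, .two 2 5 11 1, .two 353 1 353 0, .least 2, .two 5 1 71 1, .two 2 2 89 1, .least 3, .two 2 1 179 1, .two 359 1 359 0, .skip, .two 19 2 19 0]

theorem table5_ok : checkFrom 302 table5 = true := by decide +kernel

theorem table5_length : table5.length = 60 := rfl

/-- Witnesses from 362 on. -/
def table6 : List Wit := [.two 2 1 181 1, .two 3 1 11 2, .least 2, .two 5 1 73 1, .least 2, .two 367 1 367 0, .two 2 4 23 1, .two 3 2 41 1, .least 2, .two 7 1 53 1, .sylow 31 1 12 2 2 3 1, .two 373 1 373 0, .least 2, .two 3 1 5 3, .two 2 3 47 1, .two 13 1 29 1, .least 2, .two 379 1 379 0, .least 2, .two 3 1 127 1, .two 2 1 191 1, .two 383 1 383 0, .two 2 7 3 1, .least 5, .two 2 1 193 1, .two 3 2 43 1, .two 2 2 97 1, .two 389 1 389 0, .least 2, .two 17 1 23 1, .two 2 3 7 2, .two 3 1 131 1, .two 2 1 197 1, .two 5 1 79 1, .sylow 11 1 36 2 2 3 2, .two 397 1 397 0, .two 2 1 199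 1, .least 3, .two 2 4 5 2, .two 401 1 401 0, .least 2, .two 13 1 31 1, .two 2 2 101 1, .two 3 4 5 1, .least 2, .two 11 1 37 1, .sylow 17 1 24 2 3 3 1, .two 409 1 409 0, .least 2, .two 3 1 137 1, .two 2 2 103 1, .two 7 1 59 1, .least 2, .two 5 1 83 1, .two 2 5 13 1, .two 3 1 139 1, .least 2, .two 419 1 419 0, .skip, .two 421 1 421 0]

theorem table6_ok : checkFrom 362 table6 = true := by decide +kernel

theorem table6_length : table6.length = 60 := rfl

/-- Witnesses from 422 on. -/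
def table7 : List Wit := [.two 2 1 211 1, .two 3 2 47 1, .two 2 3 53 1, .two 5 2 17 1, .least 2, .two 7 1 61 1, .two 2 2 107 1, .least 3, .least 2, .two 431 1 431 0, .two 2 4 3 3, .two 433 1 433 0, .least 2, .least 3, .two 2 2 109 1, .two 19 1 23 1, .least 2, .two 439 1 439 0, .sylow 11 1 40 2 3 5 1, .two 3 2 7 2, .least 2, .two 443 1 443 0, .sylow 37 1 12 2 2 3 1, .two 5 1 89 1, .two 2 1 223 1, .two 3 1 149 1, .two 2 6 7 1, .two 449 1 449 0, .least 2, .two 11 1 41 1, .two 2 2 113 1, .two 3 1 151 1, .two 2 1 227 1, .least 5, .sylow 19 1 24 2 3 3 1, .two 457 1 457 0, .two 2 1 229 1, .two 3 3 17 1, .least 2, .two 461 1 461 0, .least 2, .two 463 1 463 0, .two 2 4 29 1, .least 3, .two 2 1 233 1, .two 467 1 467 0, .sylow 13 1 36 2 2 3 2, .two 7 1 67 1, .least 2, .two 3 1 157 1, .two 2 3 59 1, .two 11 1 43 1, .least 2, .two 5 2 19 1, .least 2, .two 3 2 53 1, .two 2 1 239 1, .two 479 1 479 0, .sylow 5 1 96 2 5 3 1, .two 13 1 37 1]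

theorem table7_ok : checkFrom 422 table7 = true := by decide +kernel

theorem table7_length : table7.length = 60 := rfl

/-- Witnesses from 482 on. -/
def table8 : List Wit := [.two 2 1 241 1, .least 3, .two 2 2 11 2, .two 5 1 97 1, .two 2 1 3 5, .two 487 1 487 0, .two 2 3 61 1, .two 3 1 163 1, .least 2, .two 491 1 491 0, .sylow 41 1 12 2 2 3 1, .two 17 1 29 1, .least 2, .least 3, .two 2 4 31 1, .two 7 1 71 1, .least 2, .two 499 1 499 0, .two 2 2 5 3, .two 3 1 167 1, .two 2 1 251 1, .two 503 1 503 0, .skip, .two 5 1 101 1, .least 2, .two 3 1 13 2, .two 2 2 127 1, .two 509 1 509 0, .least 2, .two 7 1 73 1, .two 2 9 2 0, .two 3 3 19 1, .two 2 1 257 1, .two 5 1 103 1, .sylow 43 1 12 2 2 3 1, .two 11 1 47 1, .least 2, .two 3 1 173 1, .sylow 13 1 40 2 3 5 1, .two 521 1 521 0, .least 2, .two 523 1 523 0, .two 2 2 131 1, .least 3, .two 2 1 263 1, .two 17 1 31 1, .sylow 11 1 48 2 4 3 1, .two 23 2 23 0, .least 2, .two 3 2 59 1, .least 2, .two 13 1 41 1, .least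 2, .two 5 1 107 1, .two 2 3 67 1, .two 3 1 179 1, .two 2 1 269 1, .two 7 2 11 1, .sylow 5 1 108 2 2 3 3, .two 541 1 541 0]

theorem table8_ok : checkFrom 482 table8 = true := by decide +kernel

theorem table8_length : table8.length = 60 := rfl

/-- Witnesses from 542 on. -/
def table9 : List Wit := [.two 2 1 271 1, .two 3 1 181 1, .two 2 5 17 1, .two 5 1 109 1, .least 2, .two 547 1 547 0, .two 2 2 137 1, .two 3 2 61 1, .least 2, .two 19 1 29 1, .sylow 23 1 24 2 3 3 1, .two 7 1 79 1, .two 2 1 277 1, .least 3, .two 2 2 139 1, .two 557 1 557 0, .least 2, .two 13 1 43 1, .sylow 7 1 80 2 4 5 1, .least 3, .two 2 1 281 1, .two 563 1 563 0, .sylow 47 1 12 2 2 3 1, .two 5 1 113 1, .two 2 1 283 1, .two 3 4 7 1, .two 2 3 71 1, .two 569 1 569 0, .least 2, .two 571 1 571 0, .least 2, .two 3 1 191 1, .least 2, .two 5 2 23 1, .two 2 6 3 2, .two 577 1 577 0, .two 2 1 17 2, .two 3 1 193 1, .least 2, .two 7 1 83 1, .least 2, .two 11 1 53 1, .two 2 3 73 1, .least 3, .two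 2 1 293 1, .two 587 1 587 0, .sylow 7 2 12 0 0 0 0, .two 19 1 31 1, .least 2, .two 3 1 197 1, .two 2 4 37 1, .two 593 1 593 0, .least 2, .least 5, .two 2 2 149 1, .two 3 1 199 1, .least 2, .two 599 1 599 0, .sylow 5 2 24 0 0 0 0, .two 601 1 601 0]

theorem table9_ok : checkFrom 542 table9 = true := by decide +kernel

theorem table9_length : table9.length = 60 := rfl

/-- Witnesses from 602 on. -/
def table10 : List Wit := [.least 2, .two 3 2 67 1, .two 2 2 151 1, .two 5 1 11 2, .least 2, .two 607 1 607 0, .two 2 5 19 1, .least 3, .least 2, .two 13 1 47 1, .sylow 17 1 36 2 2 3 2, .two 613 1 613 0, .two 2 1 307 1, .least 3, .sylow 11 1 56 2 3 7 1, .two 617 1 617 0, .least 2, .two 619 1 619 0, .least 2, .two 3 3 23 1, .two 2 1 311 1, .two 7 1 89 1, .sylow 13 1 48 2 4 3 1, .two 5 4 5 0, .two 2 1 313 1, .least 3, .two 2 2 157 1, .two 17 1 37 1, .least 2, .two 631 1 631 0, .two 2 3 79 1, .two 3 1 211 1, .two 2 1 317 1, .two 5 1 127 1, .sylow 53 1 12 2 2 3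 1, .two 7 2 13 1, .least 2, .two 3 2 71 1, .two 2 7 5 1, .two 641 1 641 0, .least 2, .two 643 1 643 0, .least 2, .least 3, .least 2, .two 647 1 647 0, .two 2 3 3 4, .two 11 1 59 1, .least 2, .least 3, .two 2 2 163 1, .two 653 1 653 0, .least 2, .two 5 1 131 1, .two 2 4 41 1, .two 3 2 73 1, .least 2, .two 659 1 659 0, .skip, .two 661 1 661 0]

theorem table10_ok : checkFrom 602 table10 = true := by decide +kernel

theorem table10_length : table10.length = 60 := rfl

/-- Witnesses from 662 on. -/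
def table11 : List Wit := [.two 2 1 331 1, .least 3, .two 2 3 83 1, .least 5, .least 2, .two 23 1 29 1, .two 2 2 167 1, .two 3 1 223 1, .least 2, .two 11 1 61 1, .sylow 7 1 96 2 5 3 1, .two 673 1 673 0, .two 2 1 337 1, .two 3 3 5 2, .two 2 2 13 2, .two 677 1 677 0, .least 2, .two 7 1 97 1, .sylow 17 1 40 2 3 5 1, .two 3 1 227 1, .least 2, .two 683 1 683 0, .sylow 19 1 36 2 2 3 2, .two 5 1 137 1, .two 2 1 7 3, .two 3 1 229 1, .two 2 4 43 1, .two 13 1 53 1, .least 2, .two 691 1 691 0, .two 2 2 173 1, .least 3, .two 2 1 347 1, .two 5 1 139 1, .sylow 29 1 24 2 3 3 1, .two 17 1 41 1, .two 2 1 349 1, .two 3 1 233 1, .least 2, .two 701 1 701 0, .least 2, .two 19 1 37 1, .two 2 6 11 1, .least 3, .two 2 1 353 1, .two 7 1 101 1, .sylow 59 1 12 2 2 3 1, .two 709 1 709 0, .least 2, .two 3 2 79 1, .two 2 3 89 1, .two 23 1 31 1, .least 2, .least 5, .two 2 2 179 1, .two 3 1 239 1, .two 2 1 359 1, .two 719 1 719 0, .skip, .two 7 1 103 1]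

theorem table11_ok : checkFrom 662 table11 = true := by decide +kernel

theorem table11_length : table11.length = 60 := rfl

/-- Witnesses from 722 on. -/
def table12 : List Wit := [.two 2 1 19 2, .two 3 1 241 1, .two 2 2 181 1, .two 5 2 29 1, .least 2, .two 727 1 727 0, .sylow 13 1 56 2 3 7 1, .two 3 6 3 0, .least 2, .two 17 1 43 1, .sylow 61 1 12 2 2 3 1, .two 733 1 733 0, .two 2 1 367 1, .least 3, .two 2 5 23 1, .two 11 1 67 1, .least 2, .two 739 1 739 0, .least 2, .least 3, .least 2, .two 743 1 743 0, .sylow 31 1 24 2 3 3 1, .two 5 1 149 1, .two 2 1 373 1, .two 3 2 83 1, .least 2, .two 7 1 107 1, .least 2, .two 751 1 751 0, .two 2 4 47 1, .two 3 1 251 1, .least 2, .two 5 1 151 1, .skip, .two 757 1 757 0, .two 2 1 379 1, .least 3, .sylow 19 1 40 2 3 5 1, .two 761 1 761 0, .least 2, .two 7 1 109 1, .two 2 2 191 1, .least 3, .two 2 1 383 1, .two 13 1 59 1, .two 2 8 3 1, .two 769 1 769 0, .least 2, .two 3 1 257 1, .two 2 2 193 1, .two 773 1 773 0, .least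 2, .two 5 2 31 1, .two 2 3 97 1, .least 3, .two 2 1 389 1, .two 19 1 41 1, .sylow 13 1 60 0 0 0 0, .two 11 1 71 1]

theorem table12_ok : checkFrom 722 table12 = true := by decide +kernel

theorem table12_length : table12.length = 60 := rfl

/-- Witnesses from 782 on. -/
def table13 : List Wit := [.least 2, .two 3 3 29 1, .two 2 4 7 2, .two 5 1 157 1, .least 2, .two 787 1 787 0, .two 2 2 197 1, .two 3 1 263 1, .least 2, .two 7 1 113 1, .sylow 11 1 72 2 3 3 2, .two 13 1 61 1, .two 2 1 397 1, .least 3, .two 2 2 199 1, .two 797 1 797 0, .least 2, .two 17 1 47 1, .two 2 5 5 2, .two 3 2 89 1, .two 2 1 401 1, .two 11 1 73 1, .sylow 67 1 12 2 2 3 1, .least 5, .least 2, .two 3 1 269 1, .two 2 3 101 1, .two 809 1 809 0, .least 2, .two 811 1 811 0, .least 2, .two 3 1 271 1, .least 2, .two 5 1 163 1, .sylow 17 1 48 2 4 3 1, .two 19 1 43 1, .two 2 1 409 1, .least 3, .least 2, .two 821 1 821 0, .least 2, .two 823 1 823 0, .two 2 3 103 1, .least 3, .least 2, .two 827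 1 827 0, .sylow 23 1 36 2 2 3 2, .two 829 1 829 0, .least 2, .two 3 1 277 1, .two 2 6 13 1, .two 7 2 17 1, .least 2, .two 5 1 167 1, .least 2, .two 3 3 31 1, .two 2 1 419 1, .two 839 1 839 0, .skip, .two 29 2 29 0]

theorem table13_ok : checkFrom 782 table13 = true := by decide +kernel

theorem table13_length : table13.length = 60 := rfl

/-- Witnesses from 842 on. -/
def table14 : List Wit := [.two 2 1 421 1, .two 3 1 281 1, .two 2 2 211 1, .two 5 1 13 2, .least 2, .two 7 1 11 2, .two 2 4 53 1, .two 3 1 283 1, .least 2, .two 23 1 37 1, .sylow 71 1 12 2 2 3 1, .two 853 1 853 0, .least 2, .least 3, .two 2 3 107 1, .two 857 1 857 0, .least 2, .two 859 1 859 0, .least 2, .least 3, .two 2 1 431 1, .two 863 1 863 0, .two 2 5 3 3, .two 5 1 173 1, .two 2 1 433 1, .two 3 1 17 2, .least 2, .two 11 1 79 1, .least 2, .two 13 1 67 1, .two 2 3 109 1, .two 3 2 97 1, .least 2, .two 5 3 7 1, .sylow 73 1 12 2 2 3 1, .two 877 1 877 0, .two 2 1 439 1, .two 3 1 293 1, .sylow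 11 1 80 2 4 5 1, .two 881 1 881 0, .least 2, .two 883 1 883 0, .least 2, .least 3, .two 2 1 443 1, .two 887 1 887 0, .sylow 37 1 24 2 3 3 1, .two 7 1 127 1, .least 2, .two 3 4 11 1, .two 2 2 223 1, .two 19 1 47 1, .least 2, .two 5 1 179 1, .two 2 7 7 1, .least 3, .two 2 1 449 1, .two 29 1 31 1, .sylow 5 2 36 0 0 0 0, .two 17 1 53 1]

theorem table14_ok : checkFrom 842 table14 = true := by decide +kernel

theorem table14_length : table14.length = 60 := rfl

/-- Witnesses from 902 on. -/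
def table15 : List Wit := [.least 2, .least 3, .two 2 3 113 1, .two 5 1 181 1, .least 2, .two 907 1 907 0, .two 2 2 227 1, .two 3 2 101 1, .least 2, .two 911 1 911 0, .sylow 19 1 48 2 4 3 1, .two 11 1 83 1, .two 2 1 457 1, .least 3, .two 2 2 229 1, .two 7 1 131 1, .least 2, .two 919 1 919 0, .sylow 23 1 40 2 3 5 1, .two 3 1 307 1, .two 2 1 461 1, .two 13 1 71 1, .sylow 11 1 84 0 0 0 0, .two 5 2 37 1, .two 2 1 463 1, .two 3 2 103 1, .two 2 5 29 1, .two 929 1 929 0, .least 2, .two 7 2 19 1, .two 2 2 233 1, .two 3 1 311 1, .two 2 1 467 1, .least 5, .sylow 13 1 72 2 3 3 2, .two 937 1 937 0, .least 2, .two 3 1 313 1, .least 2, .two 941 1 941 0, .least 2, .two 23 1 41 1, .two 2 4 59 1, .sylow 7 1 135 3 3 5 1, .least 2, .two 947 1 947 0, .sylow 79 1 12 2 2 3 1, .two 13 1 73 1, .least 2, .two 3 1 317 1, .sylow 17 1 56 2 3 7 1, .two 953 1 953 0, .least 2, .two 5 1 191 1, .two 2 2 239 1, .least 3, .two 2 1 479 1, .two 7 1 137 1, .skip, .two 31 2 31 0]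

theorem table15_ok : checkFrom 902 table15 = true := by decide +kernel

theorem table15_length : table15.length = 60 := rfl

/-- Witnesses from 962 on. -/
def table16 : List Wit := [.least 2, .two 3 2 107 1, .two 2 2 241 1, .two 5 1 193 1, .least 2, .two 967 1 967 0, .two 2 3 11 2, .least 3, .least 2, .two 971 1 971 0, .two 2 2 3 5, .two 7 1 139 1, .two 2 1 487 1, .least 3, .two 2 4 61 1, .two 977 1 977 0, .least 2, .two 11 1 89 1, .least 2, .two 3 2 109 1, .two 2 1 491 1, .two 983 1 983 0, .sylow 41 1 24 2 3 3 1, .two 5 1 197 1, .least 2, .least 3, .least 2, .two 23 1 43 1, .least 2, .two 991 1 991 0, .two 2 5 31 1, .two 3 1 331 1, .least 2, .two 5 1 199 1, .sylow 83 1 12 2 2 3 1, .two 997 1 997 0, .two 2 1 499 1, .two 3 3 37 1, .two 2 3 5 3, .least 7, .least 2, .two 17 1 59 1, .two 2 2 251 1, .least 3, .two 2 1 503 1, .two 19 1 53 1, .sylow 7 1 144 2 4 3 2, .two 1009 1 1009 0, .least 2, .two 3 1 337 1, .least 2, .two 1013 1 1013 0, .least 2, .least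 5, .two 2 3 127 1, .two 3 2 113 1, .two 2 1 509 1, .two 1019 1 1019 0, .sylow 17 1 60 0 0 0 0, .two 1021 1 1021 0]

theorem table16_ok : checkFrom 962 table16 = true := by decide +kernel

theorem table16_length : table16.length = 60 := rfl

/-- Witnesses from 1022 on. -/
def table17 : List Wit := [.least 2, .least 3, .two 2 10 2 0, .two 5 2 41 1, .least 2, .two 13 1 79 1, .two 2 2 257 1, .two 3 1 7 3, .least 2, .two 1031 1 1031 0, .sylow 43 1 24 2 3 3 1, .two 1033 1 1033 0, .least 2, .least 3, .least 2, .two 17 1 61 1, .least 2, .two 1039 1 1039 0, .sylow 5 1 208 2 4 13 1, .two 3 1 347 1, .two 2 1 521 1, .two 7 1 149 1, .sylow 29 1 36 2 2 3 2, .least 5, .two 2 1 523 1, .two 3 1 349 1, .two 2 3 131 1, .two 1049 1 1049 0, .least 2, .two 1051 1 1051 0, .two 2 2 263 1, .two 3 4 13 1, .least 2, .two 5 1 211 1, .sylow 11 1 96 2 5 3 1, .two 7 1 151 1, .two 2 1 23 2, .two 3 1 353 1, .least 2, .two 1061 1 1061 0, .least 2, .two 1063 1 1063 0, .sylow 19 1 56 2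 3 7 1, .least 3, .least 2, .two 11 1 97 1, .sylow 89 1 12 2 2 3 1, .two 1069 1 1069 0, .least 2, .least 3, .two 2 4 67 1, .two 29 1 37 1, .least 2, .two 5 2 43 1, .two 2 2 269 1, .two 3 1 359 1, .least 2, .two 13 1 83 1, .sylow 5 1 216 2 3 3 3, .two 23 1 47 1]

theorem table17_ok : checkFrom 1022 table17 = true := by decide +kernel

theorem table17_length : table17.length = 60 := rfl

/-- Witnesses from 1082 on. -/
def table18 : List Wit := [.two 2 1 541 1, .two 3 1 19 2, .two 2 2 271 1, .least 5, .least 2, .two 1087 1 1087 0, .two 2 6 17 1, .two 3 2 11 2, .least 2, .two 1091 1 1091 0, .skip]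

theorem table18_ok : checkFrom 1082 table18 = true := by decide +kernel

theorem table18_length : table18.length = 11 := rfl

theorem exists_witness (n : ℕ) (h2 : 2 ≤ n) (h : n ≤ 1092) : ∃ w, check n w = true := by
  rcases Nat.lt_or_ge n 62 with h' | h'
  · exact exists_of_checkFrom table0_ok (by omega) (by rw [table0_length]; omega)
  rcases Nat.lt_or_ge n 122 with h' | h'
  · exact exists_of_checkFrom table1_ok (by omega) (by rw [table1_length]; omega)
  rcases Nat.lt_or_ge n 182 with h' | h'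
  · exact exists_of_checkFrom table2_ok (by omega) (by rw [table2_length]; omega)
  rcases Nat.lt_or_ge n 242 with h' | h'
  · exact exists_of_checkFrom table3_ok (by omega) (by rw [table3_length]; omega)
  rcases Nat.lt_or_ge n 302 with h' | h'
  · exact exists_of_checkFrom table4_ok (by omega) (by rw [table4_length]; omega)
  rcases Nat.lt_or_ge n 362 with h' | h'
  · exact exists_of_checkFrom table5_ok (by omega) (by rw [table5_length]; omega)
  rcases Nat.lt_or_ge n 422 with h' | h'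
  · exact exists_of_checkFrom table6_ok (by omega) (by rw [table6_length]; omega)
  rcases Nat.lt_or_ge n 482 with h' | h'
  · exact exists_of_checkFrom table7_ok (by omega) (by rw [table7_length]; omega)
  rcases Nat.lt_or_ge n 542 with h' | h'
  · exact exists_of_checkFrom table8_ok (by omega) (by rw [table8_length]; omega)
  rcases Nat.lt_or_ge n 602 with h' | h'
  · exact exists_of_checkFrom table9_ok (by omega) (by rw [table9_length]; omega)
  rcases Nat.lt_or_ge n 662 with h' | h'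
  · exact exists_of_checkFrom table10_ok (by omega) (by rw [table10_length]; omega)
  rcases Nat.lt_or_ge n 722 with h' | h'
  · exact exists_of_checkFrom table11_ok (by omega) (by rw [table11_length]; omega)
  rcases Nat.lt_or_ge n 782 with h' | h'
  · exact exists_of_checkFrom table12_ok (by omega) (by rw [table12_length]; omega)
  rcases Nat.lt_or_ge n 842 with h' | h'
  · exact exists_of_checkFrom table13_ok (by omega) (by rw [table13_length]; omega)
  rcases Nat.lt_or_ge n 902 with h' | h'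
  · exact exists_of_checkFrom table14_ok (by omega) (by rw [table14_length]; omega)
  rcases Nat.lt_or_ge n 962 with h' | h'
  · exact exists_of_checkFrom table15_ok (by omega) (by rw [table15_length]; omega)
  rcases Nat.lt_or_ge n 1022 with h' | h'
  · exact exists_of_checkFrom table16_ok (by omega) (by rw [table16_length]; omega)
  rcases Nat.lt_or_ge n 1082 with h' | h'
  · exact exists_of_checkFrom table17_ok (by omega) (by rw [table17_length]; omega)
  rcases Nat.lt_or_ge n 1093 with h' | h'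
  · exact exists_of_checkFrom table18_ok (by omega) (by rw [table18_length]; omega)
  omega

end CfsgLib.SmallSimple.AtMost1092
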