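import Mathlib
import Cfsg.Agent.Lib.SmallGroups.Basic
import Cfsg.Agent.Lib.SmallGroups.AbelianSylow
import Cfsg.Agent.Lib.Classical.GLOrder
import Cfsg.Agent.Lib.KnownSimple.Order7920.Tools
import Cfsg.Agent.Lib.Char.Burnside
import Cfsg.Agent.S0073
import Cfsg.Agent.S0904
import Cfsg.Agent.S0996

/-!
Arithmetic constraints on the order of a small non-abelian simple group.
-/

set_option autoImplicit false

namespace CfsgLib.SmallSimple.AtMost1092

open Subgroup CfsgLib

variable {G : Type*} [Group G] [Finite G] [IsSimpleGroup G]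

/-- The order is not of the form `p ^ a * q ^ b`. -/
theorem not_two_primes (hG : ¬ IsMulCommutative G) {p q a b : ℕ} (hp : p.Prime) (hq : q.Prime)
    (hn : Nat.card G = p ^ a * q ^ b) : False := by
  have h := CfsgLib.Char.isSolvable_of_card_eq_pow_mul_pow (G := G) hp hq (a := a) (b := b) (dvd_of_eq hn)
  exact hG ⟨⟨IsSimpleGroup.comm_iff_isSolvable.2 h⟩⟩

/-- The least prime divisor is cubed, or twelve divides. -/
theorem cube_or_twelve (hG : ¬ IsMulCommutative G) :
    (Nat.card G).minFac ^ 3 ∣ Nat.card G ∨ 12 ∣ Nat.card G := by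
  refine Cfsg.Agent.S0073.result ?_
  by_contra h
  push Not at h
  exact hG ⟨⟨h⟩⟩

/-- A proper subgroup has large index. -/
theorem index_factorial (hG : ¬ IsMulCommutative G) {H : Subgroup G} {i : ℕ} (hi : H.index = i)
    (h1 : i ≠ 1) : 2 * Nat.card G ∣ i.factorial := by
  have hH : H ≠ ⊤ := fun h => h1 (by rw [← hi, h, index_top])
  exact hi ▸ SmallGroups.two_mul_card_dvd_factorial hG H hH

theorem eq_top_of_not_dvd (hG : ¬ IsMulCommutative G) {H : Subgroup G}
    (h : ¬ 2 * Nat.card G ∣ H.index.factorial) : H = ⊤ := by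
  by_contra hH
  exact h (SmallGroups.two_mul_card_dvd_factorial hG H hH)

section Sylow

variable {p a m : ℕ} [hp : Fact p.Prime]

/-- The Sylow number and the order of a Sylow normalizer. -/
theorem sylow_data (hG : ¬ IsMulCommutative G) (hn : Nat.card G = p ^ a * m) (hm : ¬ p ∣ m)
    (ha : a ≠ 0) (P : Sylow p G) : ∃ k c : ℕ, Nat.card (Sylow p G) = k ∧ k ≠ 1 ∧ k % p = 1 ∧ k * c = m ∧
      Nat.card (normalizer ((P : Subgroup G) : Set G)) = p ^ a * c ∧ 2 * Nat.card G ∣ k.factorial := by
  have hd : p ∣ Nat.card G := hn ▸ dvd_mul_of_dvd_left (dvd_pow_self p ha) m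
  have hdvd := SmallGroups.card_sylow_dvd_of_card_eq hn hm (p := p) (G := G)
  obtain ⟨c, hc⟩ := hdvd
  refine ⟨_, c, rfl, SmallGroups.card_sylow_ne_one hG hd, SmallGroups.mod_eq_one_card_sylow, hc.symm, ?_,
    SmallGroups.two_mul_card_dvd_factorial_card_sylow hG hd⟩
  have h := SmallGroups.card_sylow_mul_card_normalizer P
  rw [hn] at h
  refine Nat.eq_of_mul_eq_mul_left (Nat.card_pos (α := Sylow p G)) ?_
  rw [h, mul_left_comm, ← hc]

/-- An abelian Sylow subgroup is not self-normalizing. -/
theorem normalizer_ne_self (hG : ¬ IsMulCommutative G) (hn : Nat.card G = p ^ a * m) (hm : ¬ p ∣ m)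
    (ha : a ≠ 0) (ha2 : a ≤ 2) (P : Sylow p G) :
    Nat.card (normalizer ((P : Subgroup G) : Set G)) ≠ p ^ a := by
  intro h
  have hcard := SmallGroups.card_sylow_eq hn hm P
  have hd : p ∣ Nat.card G := hn ▸ dvd_mul_of_dvd_left (dvd_pow_self p ha) m
  have hN : normalizer ((P : Subgroup G) : Set G) = (P : Subgroup G) :=
    (eq_of_le_of_card_ge Subgroup.le_normalizer (by rw [h, hcard])).symm
  have hc : IsMulCommutative (P : Subgroup G) := by
    rcases (show a = 1 ∨ a = 2 by omega) with rfl | rfl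
    · rw [pow_one] at hcard
      haveI := isCyclic_of_prime_card hcard
      exact IsCyclic.isMulCommutative
    · exact IsPGroup.isMulCommutative_of_card_eq_prime_sq hcard
  exact SmallGroups.card_normalizer_ne_of_isMulCommutative hG hd P (by rw [hN]; exact hc)

/-- The automizer of a Sylow subgroup of prime order. -/
theorem prime_data (hG : ¬ IsMulCommutative G) (hn : Nat.card G = p * m) (hm : ¬ p ∣ m)
    (P : Sylow p G) {c : ℕ} (hN : Nat.card (normalizer ((P : Subgroup G) : Set G)) = p * c) :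
    ∃ r e : ℕ, r ∣ p - 1 ∧ r ≠ 1 ∧ r * e = c ∧
      Nat.card (centralizer ((P : Subgroup G) : Set G)) = p * e := by
  have hcard : Nat.card (P : Subgroup G) = p := by
    simpa using SmallGroups.card_sylow_eq (a := 1) (by rw [pow_one, hn]) hm P
  have hr := KnownSimple.Order7920.relIndex_centralizer_dvd (P : Subgroup G)
  rw [KnownSimple.Order7920.card_mulAut_prime hcard] at hr
  have hr1 : (centralizer ((P : Subgroup G) : Set G)).relIndex (normalizer ((P : Subgroup G) : Set G)) ≠ 1 :=
    fun h => SmallGroups.not_normalizer_le_centralizer hG (hn ▸ dvd_mul_right p m) P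
      (relIndex_eq_one.1 h)
  haveI : IsCyclic (P : Subgroup G) := isCyclic_of_prime_card hcard
  haveI : IsMulCommutative (P : Subgroup G) := IsCyclic.isMulCommutative
  have hPC : (P : Subgroup G) ≤ centralizer ((P : Subgroup G) : Set G) := le_centralizer _
  obtain ⟨e, he⟩ := card_dvd_of_le hPC
  rw [hcard] at he
  refine ⟨_, e, hr, hr1, ?_, he⟩
  have h := card_mul_index ((centralizer ((P : Subgroup G) : Set G)).subgroupOf
    (normalizer ((P : Subgroup G) : Set G)))
  rw [Nat.card_congr (subgroupOfEquivOfLe (centralizer_le_normalizer _)).toEquiv, he, hN, ← relIndex,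
    mul_assoc] at h
  rw [mul_comm]
  exact Nat.eq_of_mul_eq_mul_left hp.out.pos h

/-- A prime occurring once among three primes has self-centralizing Sylow subgroup. -/
theorem card_centralizer_of_three (hn : Nat.card G = p * m) (hm : ¬ p ∣ m) {q r b e : ℕ} (hq : q.Prime)
    (hr : r.Prime) (hqr : q ≠ r) (hm' : m = q ^ b * r ^ e) (hqp : q ≠ p) (hrp : r ≠ p) (P : Sylow p G) :
    Nat.card (centralizer ((P : Subgroup G) : Set G)) = p := by
  have h : centralizer ((P : Subgroup G) : Set G) = (P : Subgroup G) :=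
    Cfsg.Agent.S0904.result q r p b e hq hr hqr hqp hrp (by rw [hn, hm', mul_comm]) P
  rw [h]
  simpa using SmallGroups.card_sylow_eq (a := 1) (by rw [pow_one, hn]) hm P

/-- With `p + 1` Sylow subgroups of order `p` the order is that of a two-dimensional linear group. -/
theorem order_of_succ (hG : ¬ IsMulCommutative G) (hn : Nat.card G = p * m) (hm : ¬ p ∣ m)
    (hk : Nat.card (Sylow p G) = p + 1) :
    2 * Nat.card G = p * (p * p - 1) ∨ Nat.card G = p * ((p - 1) * (p - 2)) := by
  classical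
  obtain ⟨P⟩ : Nonempty (Sylow p G) := inferInstance
  have hcard : Nat.card (P : Subgroup G) = p := by
    simpa using SmallGroups.card_sylow_eq (a := 1) (by rw [pow_one, hn]) hm P
  haveI : IsCyclic (P : Subgroup G) := isCyclic_of_prime_card hcard
  haveI : IsMulCommutative (P : Subgroup G) := IsCyclic.isMulCommutative
  have hd : p ∣ Nat.card G := hn ▸ dvd_mul_right p m
  have hinj : Function.Injective (MulAction.toPermHom G (Sylow p G)) := by
    refine SmallGroups.toPermHom_injective_of_not_trivial ?_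
    by_contra h
    push Not at h
    exact SmallGroups.normalizer_sylow_ne_top hG hd P
      (eq_top_iff.2 fun g _ => Sylow.smul_eq_iff_mem_normalizer.1 (h g P))
  have hfree : ∀ y ∈ (P : Subgroup G), ∀ Q : Sylow p G, Q ≠ P → y • Q = Q → y = 1 := by
    intro y hy Q hQ hyQ
    by_contra hy1
    have hz : zpowers y = (P : Subgroup G) := by
      refine eq_of_le_of_card_ge ((zpowers_le).2 hy) ?_
      rw [hcard, Nat.card_zpowers]
      have ho : orderOf (⟨y, hy⟩ : (P : Subgroup G)) ∣ p := by
        exact (_root_.orderOf_dvd_natCard _).trans hcard.dvd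
      rcases (Nat.dvd_prime hp.out).1 ho with h | h
      · exact absurd (congrArg Subtype.val (orderOf_eq_one_iff.1 h)) hy1
      · rw [← h, Subgroup.orderOf_mk]
    have hle : zpowers y ≤ normalizer ((Q : Subgroup G) : Set G) :=
      (zpowers_le).2 (Sylow.smul_eq_iff_mem_normalizer.1 hyQ)
    rw [hz] at hle
    exact hQ (SmallGroups.sylow_eq_of_normalizes P Q hle).symm
  have hfix : ∀ y ∈ (P : Subgroup G), y • P = P := fun y hy =>
    Sylow.smul_eq_iff_mem_normalizer.2 (Subgroup.le_normalizer hy)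
  haveI : Finite (Sylow p G) := inferInstance
  obtain ⟨Q, hQ⟩ : ∃ Q : Sylow p G, Q ≠ P := by
    have : Nontrivial (Sylow p G) := by
      rw [← Finite.one_lt_card_iff_nontrivial, hk]; have := hp.out.pos; omega
    exact exists_ne P
  have hne : ∀ y : ↥(P : Subgroup G), (y : G) • Q ≠ P := fun y h => hQ (by
    rw [← inv_smul_smul (y : G) Q, h, hfix _ (inv_mem y.2)])
  let f : ↥(P : Subgroup G) → {R : Sylow p G // R ≠ P} := fun y => ⟨(y : G) • Q, hne y⟩
  have hf : Function.Bijective f := by
    rw [Nat.bijective_iff_injective_and_card]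
    refine ⟨fun y z h => ?_, ?_⟩
    · have h1 : (y : G) • Q = (z : G) • Q := congrArg Subtype.val h
      have h2 := hfree ((z : G)⁻¹ * y) (mul_mem (inv_mem z.2) y.2) Q hQ
        (by rw [mul_smul, h1, inv_smul_smul])
      exact Subtype.ext (by rwa [inv_mul_eq_one, eq_comm] at h2)
    · haveI := Fintype.ofFinite (Sylow p G)
      rw [hcard, Nat.card_eq_fintype_card, Fintype.card_subtype_compl, Fintype.card_subtype_eq,
        ← Nat.card_eq_fintype_card, hk, Nat.add_sub_cancel]
  have hC : centralizer ((P : Subgroup G) : Set G) = (P : Subgroup G) := by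
    refine le_antisymm (fun g hg => ?_) (le_centralizer _)
    have hgP : g • P = P :=
      Sylow.smul_eq_iff_mem_normalizer.2 (centralizer_le_normalizer _ hg)
    obtain ⟨y, hy⟩ := hf.2 ⟨g • Q, fun h => hQ (by
      rw [← inv_smul_smul g Q, h, Sylow.smul_eq_iff_mem_normalizer.2
        (inv_mem (centralizer_le_normalizer _ hg))])⟩
    have hy' : (y : G) • Q = g • Q := congrArg Subtype.val hy
    have key : (y : G)⁻¹ * g = 1 := by
      refine hinj (Equiv.ext fun R => ?_)
      rw [map_one]
      show ((y : G)⁻¹ * g) • R = R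
      by_cases hR : R = P
      · rw [hR, mul_smul, hgP, hfix _ (inv_mem y.2)]
      · obtain ⟨z, hz⟩ := hf.2 ⟨R, hR⟩
        have hz' : (z : G) • Q = R := congrArg Subtype.val hz
        have hc : ((y : G)⁻¹ * g) * z = z * ((y : G)⁻¹ * g) := by
          have h1 : (z : G) * g = g * z := mem_centralizer_iff.1 hg _ z.2
          have h2 : (y : G)⁻¹ * z = z * (y : G)⁻¹ :=
            congrArg Subtype.val (mul_comm' (y⁻¹) z)
          rw [mul_assoc, ← h1, ← mul_assoc, h2, mul_assoc]
        rw [← hz', ← mul_smul, hc, mul_smul, mul_smul _ g, ← hy', inv_smul_smul]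
    rw [inv_mul_eq_one] at key
    exact key ▸ y.2
  obtain ⟨z, hz⟩ := exists_prime_orderOf_dvd_card' (G := (P : Subgroup G)) p (by rw [hcard])
  have hzP : zpowers (z : G) = (P : Subgroup G) :=
    eq_of_le_of_card_ge ((zpowers_le).2 z.2) (by rw [hcard, Nat.card_zpowers, Subgroup.orderOf_coe, hz])
  have h := Cfsg.Agent.S0996.result (G := G) (SmallGroups.commutator_eq_top_of_simple hG) p (z : G)
    (by rw [Subgroup.orderOf_coe, hz]) (by rw [centralizer_singleton_eq, hzP, hC])
    (by rw [hk]; have := hp.out.two_le; nlinarith)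
  rcases h with ⟨F, hF1, hF2, hFc, h3, ⟨e⟩⟩ | ⟨l, F, hF1, hF2, hFc, hpl, h3, ⟨e⟩⟩
  · left
    have h4 := Classical.card_PSL_mul (F := F) hFc 2 (by norm_num)
    rw [← Nat.card_congr e.toEquiv, Fin.prod_univ_two] at h4
    have hodd : Odd p := hp.out.odd_of_ne_two (by omega)
    obtain ⟨j, rfl⟩ := hodd
    rw [show Nat.gcd 2 (2 * j + 1 - 1) = 2 by simp] at h4
    simp only [Fin.val_zero, pow_zero, Fin.val_one, pow_one, show 2 * j + 1 - 1 = 2 * j by omega] at h4
    have h5 : (2 * j + 1) ^ 2 - (2 * j + 1) = (2 * j + 1) * (2 * j) := by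
      have : (2 * j + 1) ^ 2 = (2 * j + 1) * (2 * j) + (2 * j + 1) := by ring
      omega
    have h6 : (2 * j + 1) * (2 * j + 1) - 1 = (2 * j + 1) ^ 2 - 1 := by rw [pow_two]
    rw [h6]
    rw [h5] at h4
    exact Nat.eq_of_mul_eq_mul_left (show 0 < 2 * j by omega) (by linear_combination h4)
  · right
    have h4 := Classical.card_PSL_mul (F := F) hFc 2 (by norm_num)
    rw [← Nat.card_congr e.toEquiv, Fin.prod_univ_two] at h4
    have h2 : 2 ∣ 2 ^ l := dvd_pow_self 2 (fun h => by rw [h, pow_zero] at hpl; omega)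
    have hl : l ≠ 0 := fun h => by rw [h, pow_zero] at hpl; omega
    obtain ⟨x, hx⟩ : ∃ x, 2 ^ l = 2 * x := ⟨2 ^ (l - 1), by rw [← pow_succ']; congr 1; omega⟩
    rw [hx] at h4 hpl
    have hg : Nat.gcd 2 (2 * x - 1) = 1 := (Nat.prime_two.coprime_iff_not_dvd).2 (by omega)
    rw [hg, one_mul] at h4
    simp only [Fin.val_zero, pow_zero, Fin.val_one, pow_one] at h4
    obtain ⟨x, rfl⟩ : ∃ y, x = y + 1 := ⟨x - 1, by omega⟩
    have h5 : (2 * (x + 1)) ^ 2 - 1 = (2 * x + 1) * (2 * x + 3) := by
      have : (2 * (x + 1)) ^ 2 = (2 * x + 1) * (2 * x + 3) + 1 := by ring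
      omega
    have h6 : (2 * (x + 1)) ^ 2 - 2 * (x + 1) = (2 * x + 2) * (2 * x + 1) := by
      have : (2 * (x + 1)) ^ 2 = (2 * x + 2) * (2 * x + 1) + 2 * (x + 1) := by ring
      omega
    rw [h5, h6, show 2 * (x + 1) - 1 = 2 * x + 1 by omega] at h4
    rw [hpl, show 2 * (x + 1) + 1 - 1 = 2 * x + 2 by omega, show 2 * (x + 1) + 1 - 2 = 2 * x + 1 by omega]
    exact Nat.eq_of_mul_eq_mul_left (show 0 < 2 * x + 1 by omega) (by linear_combination h4)
where
  centralizer_singleton_eq {z : G} : centralizer ({z} : Set G) = centralizer (zpowers z : Set G) :=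
    (centralizer_closure {z}).symm.trans (by rw [← zpowers_eq_closure])

end Sylow

end CfsgLib.SmallSimple.AtMost1092
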