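import Cfsg.Agent.Lib.SmallSimple.AtMost1092.Tools

/-!
A decidable test excluding an order, and its soundness.
-/

set_option autoImplicit false

namespace CfsgLib.SmallSimple.AtMost1092

/-- A certificate excluding an order. -/
inductive Wit
  /-- one of the orders treated separately -/
  | skip
  /-- two primes -/
  | two (p a q b : ℕ)
  /-- the least prime divisor occurs at most twice -/
  | least (p : ℕ)
  /-- a Sylow number argument -/
  | sylow (p a m q b r e : ℕ)

/-- Primality below `34 ^ 2`. -/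
def isPrimeSmall (p : ℕ) : Bool :=
  decide (2 ≤ p) && decide (p < 1156) && (List.range 34).all fun d => decide (d < 2) || decide (p ≤ d) || decide (p % d ≠ 0)

theorem prime_of_isPrimeSmall {p : ℕ} (h : isPrimeSmall p = true) : p.Prime := by
  simp only [isPrimeSmall, Bool.and_eq_true, decide_eq_true_eq, List.all_eq_true, List.mem_range,
    Bool.or_eq_true] at h
  obtain ⟨⟨h2, hlt⟩, hall⟩ := h
  rw [Nat.prime_def_le_sqrt]
  refine ⟨h2, fun d hd2 hds hdp => ?_⟩
  have hd : d < 34 := by
    have h1 := Nat.le_sqrt.1 hds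
    nlinarith
  rcases hall d hd with (h1 | h1) | h1
  · omega
  · have h1' := Nat.le_sqrt.1 hds
    nlinarith
  · exact h1 (Nat.mod_eq_zero_of_dvd hdp)

/-- The Sylow number `k`, with `m = k * c`, is impossible. -/
def badK (n p a k c : ℕ) (three : Bool) : Bool :=
  (decide (k ≤ 12) && decide (k.factorial % (2 * n) ≠ 0)) ||
  (decide (a = 1) && decide (Nat.gcd c (p - 1) = 1)) ||
  (decide (a ≤ 2) && decide (c = 1)) ||
  (decide (a = 1) && three && decide ((p - 1) % c ≠ 0)) ||
  (decide (a = 1) && decide (k = p + 1) && decide (2 * n ≠ p * (p * p - 1)) &&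
    decide (n ≠ p * ((p - 1) * (p - 2))))

/-- `m` is a product of powers of two primes different from `p`. -/
def isThree (p m q b r e : ℕ) : Bool :=
  isPrimeSmall q && isPrimeSmall r && decide (q ≠ r) && decide (q ≠ p) && decide (r ≠ p) &&
    decide (m = q ^ b * r ^ e)

/-- The orders that are treated separately or occur. -/
def isExceptional (n : ℕ) : Bool :=
  [60, 168, 360, 504, 660, 1092, 420, 720, 756, 840, 960].contains n

/-- The test. -/
def check (n : ℕ) : Wit → Bool
  | .skip => isExceptional n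
  | .two p a q b => isPrimeSmall p && isPrimeSmall q && decide (n = p ^ a * q ^ b)
  | .least p => decide (n % p = 0) && isPrimeSmall p &&
      ((List.range p).all fun d => decide (d < 2) || decide (n % d ≠ 0)) &&
      decide (n % p ^ 3 ≠ 0) && decide (n % 12 ≠ 0)
  | .sylow p a m q b r e => isPrimeSmall p && decide (a ≠ 0) && decide (n = p ^ a * m) && decide (m % p ≠ 0) &&
      (List.range (m / p + 1)).all fun j => decide (j = 0) || decide (m % (1 + j * p) ≠ 0) ||
        badK n p a (1 + j * p) (m / (1 + j * p)) (isThree p m q b r e)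

/-- The test along a list. -/
def checkFrom : ℕ → List Wit → Bool
  | _, [] => true
  | n, w :: l => check n w && checkFrom (n + 1) l

theorem exists_of_checkFrom {l : List Wit} {s n : ℕ} (h : checkFrom s l = true) (h1 : s ≤ n)
    (h2 : n < s + l.length) : ∃ w, check n w = true := by
  induction l generalizing s with
  | nil => simp at h2; omega
  | cons w l ih =>
    simp only [checkFrom, Bool.and_eq_true] at h
    rcases Nat.eq_or_lt_of_le h1 with rfl | hlt
    · exact ⟨w, h.1⟩
    · exact ih h.2 hlt (by simp at h2; omega)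

variable {G : Type*} [Group G] [Finite G] [IsSimpleGroup G]

/-- Soundness of the test. -/
theorem exceptional_of_check (hG : ¬ IsMulCommutative G) {w : Wit} (h : check (Nat.card G) w = true) :
    isExceptional (Nat.card G) = true := by
  cases w with
  | skip => exact h
  | two p a q b =>
    simp only [check, Bool.and_eq_true, decide_eq_true_eq] at h
    exact (not_two_primes hG (prime_of_isPrimeSmall h.1.1) (prime_of_isPrimeSmall h.1.2) h.2).elim
  | least p =>
    simp only [check, Bool.and_eq_true, decide_eq_true_eq, List.all_eq_true, List.mem_range,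
      Bool.or_eq_true] at h
    obtain ⟨⟨⟨⟨hp, hpp⟩, hall⟩, h3⟩, h12⟩ := h
    have hp' := prime_of_isPrimeSmall hpp
    have hmin : (Nat.card G).minFac = p := by
      refine le_antisymm (Nat.minFac_le_of_dvd hp'.two_le (Nat.dvd_of_mod_eq_zero hp)) ?_
      by_contra hlt
      have hn1 : Nat.card G ≠ 1 := fun e => hp'.one_lt.ne'
        (Nat.dvd_one.1 (e ▸ Nat.dvd_of_mod_eq_zero hp))
      rcases hall _ (not_le.1 hlt) with h1 | h1
      · exact absurd (Nat.minFac_prime hn1).two_le (by omega)
      · exact h1 (Nat.mod_eq_zero_of_dvd (Nat.minFac_dvd _))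
    rcases cube_or_twelve hG with h1 | h1
    · exact absurd (Nat.mod_eq_zero_of_dvd (hmin ▸ h1)) h3
    · exact absurd (Nat.mod_eq_zero_of_dvd h1) h12
  | sylow p a m q b r e =>
    exfalso
    simp only [check, Bool.and_eq_true, decide_eq_true_eq, List.all_eq_true, List.mem_range,
      Bool.or_eq_true] at h
    obtain ⟨⟨⟨⟨hpp, ha⟩, hn⟩, hm⟩, hall⟩ := h
    haveI : Fact p.Prime := ⟨prime_of_isPrimeSmall hpp⟩
    have hm' : ¬ p ∣ m := fun h => hm (Nat.mod_eq_zero_of_dvd h)
    obtain ⟨P⟩ : Nonempty (Sylow p G) := inferInstance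
    obtain ⟨k, c, hk, hk1, hkp, hkc, hN, hfac⟩ := sylow_data hG hn hm' ha P
    have hk0 : 0 < k := hk ▸ Nat.card_pos
    have hkj : 1 + k / p * p = k := by
      have := Nat.div_add_mod k p
      rw [hkp, mul_comm] at this
      omega
    have hj0 : k / p ≠ 0 := fun h => by rw [h, zero_mul] at hkj; omega
    have hkm : k ∣ m := ⟨c, hkc.symm⟩
    have hm0 : 0 < m := Nat.pos_of_ne_zero fun h => hm (by simp [h])
    have hjlt : k / p < m / p + 1 := Nat.lt_succ_of_le (Nat.div_le_div_right (Nat.le_of_dvd hm0 hkm))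
    have := hall _ hjlt
    rw [hkj] at this
    rcases this with (h1 | h1) | h1
    · exact hj0 h1
    · exact h1 (Nat.mod_eq_zero_of_dvd hkm)
    rw [show m / k = c by rw [← hkc, Nat.mul_div_cancel_left _ hk0]] at h1
    simp only [badK, Bool.or_eq_true, Bool.and_eq_true, decide_eq_true_eq] at h1
    rcases h1 with (((⟨-, h1⟩ | ⟨rfl, h1⟩) | ⟨ha2, rfl⟩) | ⟨⟨rfl, hth⟩, h1⟩) | ⟨⟨⟨rfl, rfl⟩, hne1⟩, hne2⟩
    · exact h1 (Nat.mod_eq_zero_of_dvd hfac)
    · rw [pow_one] at hn hN
      obtain ⟨s, t, hs, hs1, hst, -⟩ := prime_data hG hn hm' P hN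
      exact hs1 (Nat.dvd_one.1 (h1 ▸ Nat.dvd_gcd ⟨t, hst.symm⟩ hs))
    · exact normalizer_ne_self hG hn hm' ha ha2 P (by rw [hN, mul_one])
    · rw [pow_one] at hn hN
      simp only [isThree, Bool.and_eq_true, decide_eq_true_eq] at hth
      obtain ⟨⟨⟨⟨⟨hq, hr⟩, hqr⟩, hqp⟩, hrp⟩, hmqr⟩ := hth
      obtain ⟨s, t, hs, hs1, hst, hC⟩ := prime_data hG hn hm' P hN
      have h3 := card_centralizer_of_three hn hm' (prime_of_isPrimeSmall hq) (prime_of_isPrimeSmall hr)
        hqr hmqr hqp hrp P
      have ht : t = 1 := Nat.eq_of_mul_eq_mul_left (Fact.out : p.Prime).pos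
        (by rw [mul_one]; exact hC.symm.trans h3)
      rw [ht, mul_one] at hst
      exact h1 (Nat.mod_eq_zero_of_dvd (hst ▸ hs))
    · rw [pow_one] at hn
      rcases order_of_succ hG hn hm' hk with h1 | h1
      · exact hne1 h1
      · exact hne2 h1

end CfsgLib.SmallSimple.AtMost1092
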