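import Cfsg.Agent.Lib.SmallSimple.AtMost1092.Special
import Cfsg.Agent.Lib.SmallGroups.Perm

/-!
In a simple group of order 720 there would be ten Sylow 3-subgroups, meeting pairwise trivially.
-/

set_option autoImplicit false

namespace CfsgLib.SmallSimple.AtMost1092.Sev20

open Subgroup CfsgLib

variable {G : Type*} [Group G] [Finite G] [IsSimpleGroup G]

instance : Fact (Nat.Prime 3) := ⟨by norm_num⟩

theorem card_sylow_three (hn : Nat.card G = 720) (P : Sylow 3 G) : Nat.card (P : Subgroup G) = 9 := by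
  simpa using SmallGroups.card_sylow_eq (p := 3) (a := 2) (m := 80) (by rw [hn]; rfl) (by decide) P

/-- An element of order five centralizes no element of order prime to five. -/
theorem eq_one_of_commute (hn : Nat.card G = 720) {x y : G} (hx : orderOf x = 5)
    (hc : Commute x y) (hy : Nat.Coprime (orderOf y) 5) : y = 1 := by
  haveI : Fact (Nat.Prime 5) := ⟨by norm_num⟩
  have hz : IsPGroup 5 (zpowers x) := IsPGroup.of_card (n := 1) (by rw [Nat.card_zpowers, hx, pow_one])
  obtain ⟨P, hP⟩ := hz.exists_le_sylow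
  have hPc : Nat.card (P : Subgroup G) = 5 := by
    simpa using SmallGroups.card_sylow_eq (p := 5) (a := 1) (m := 144) (by rw [hn]; rfl) (by decide) P
  have heq : zpowers x = (P : Subgroup G) := eq_of_le_of_card_ge hP (by rw [hPc, Nat.card_zpowers, hx])
  have hC : centralizer ((P : Subgroup G) : Set G) = (P : Subgroup G) :=
    Cfsg.Agent.S0904.result 2 3 5 4 2 Nat.prime_two (by norm_num) (by norm_num) (by norm_num) (by norm_num)
      (by rw [hn]; norm_num) P
  have hyP : y ∈ (P : Subgroup G) := by
    rw [← hC, mem_centralizer_iff]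
    intro g hg
    rw [SetLike.mem_coe, ← heq] at hg
    obtain ⟨i, rfl⟩ := mem_zpowers_iff.1 hg
    exact (hc.zpow_left i).eq
  have h1 : orderOf y ∣ 5 := by
    rw [← hPc, ← Subgroup.orderOf_mk (ha := hyP)]
    exact _root_.orderOf_dvd_natCard _
  exact orderOf_eq_one_iff.1 (Nat.eq_one_of_dvd_coprimes hy dvd_rfl h1)

/-- The Sylow number at three. -/
theorem ten_or_forty (hG : ¬ IsMulCommutative G) (hn : Nat.card G = 720) (P : Sylow 3 G) :
    (Nat.card (Sylow 3 G) = 10 ∧ Nat.card (normalizer ((P : Subgroup G) : Set G)) = 72) ∨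
    (Nat.card (Sylow 3 G) = 40 ∧ Nat.card (normalizer ((P : Subgroup G) : Set G)) = 18) := by
  obtain ⟨k, c, hk, hk1, hkp, hkc, hN, hfac⟩ :=
    sylow_data hG (p := 3) (a := 2) (m := 80) (by rw [hn]; rfl) (by decide) (by norm_num) P
  have hkm : k ∈ Nat.divisors 80 := Nat.mem_divisors.2 ⟨⟨c, hkc.symm⟩, by norm_num⟩
  have hdiv : ∀ j ∈ Nat.divisors 80, j % 3 = 1 → j ≠ 1 → j = 4 ∨ j = 10 ∨ j = 16 ∨ j = 40 := by decide +kernel
  rw [hk]
  rcases hdiv k hkm hkp hk1 with rfl | rfl | rfl | rfl
  · rw [hn] at hfac; exact absurd (Nat.mod_eq_zero_of_dvd hfac) (by decide)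
  · exact Or.inl ⟨rfl, by rw [hN]; omega⟩
  · exfalso
    obtain rfl : c = 5 := by omega
    haveI : Fact (Nat.Prime 5) := ⟨by norm_num⟩
    obtain ⟨x, hx⟩ := exists_prime_orderOf_dvd_card' (G := normalizer ((P : Subgroup G) : Set G)) 5
      (by rw [hN]; norm_num)
    have hx' : orderOf (x : G) = 5 := by rw [Subgroup.orderOf_coe, hx]
    obtain ⟨h, hh, h1, hc⟩ := KnownSimple.Order7920.exists_commute_of_normalizes (by norm_num) hx'
      (P : Subgroup G) (fun g hg => (mem_normalizer_iff.1 x.2 g).1 hg) (by rw [card_sylow_three hn]; decide)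
    refine h1 (eq_one_of_commute hn hx' hc ?_)
    have h9 : orderOf h ∣ 9 := by
      rw [← card_sylow_three hn P, ← Subgroup.orderOf_mk (ha := hh)]
      exact _root_.orderOf_dvd_natCard _
    exact Nat.Coprime.coprime_dvd_left h9 (by norm_num)
  · exact Or.inr ⟨rfl, by rw [hN]; omega⟩

/-- The double transpositions of four letters, with the identity. -/
def klein : Subgroup (Equiv.Perm (Fin 4)) where
  carrier := {σ | σ = 1 ∨ (σ * σ = 1 ∧ ∀ i, σ i ≠ i)}
  one_mem' := Or.inl rfl
  mul_mem' := by
    intro a b ha hb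
    revert a b
    decide +kernel
  inv_mem' := by
    intro a ha
    revert a
    decide +kernel

instance (σ : Equiv.Perm (Fin 4)) : Decidable (σ ∈ klein) :=
  decidable_of_iff (σ = 1 ∨ (σ * σ = 1 ∧ ∀ i, σ i ≠ i)) Iff.rfl

theorem exists_sqrt_klein : ∀ σ : Equiv.Perm (Fin 4), σ ∈ klein → ∃ τ, τ * τ = σ := by decide +kernel

theorem card_klein : Nat.card klein = 4 := by
  rw [Nat.card_eq_fintype_card]; decide +kernel

theorem klein_normal : ∀ σ : Equiv.Perm (Fin 4), σ ∈ klein → ∀ τ, τ * σ * τ⁻¹ ∈ klein := by decide +kernel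

theorem conj_mul_self {C : Type*} [Group C] (c : C) {v : C} (h : v * v = 1) :
    c * v * c⁻¹ * (c * v * c⁻¹) = 1 := by
  rw [show c * v * c⁻¹ * (c * v * c⁻¹) = c * (v * v) * c⁻¹ by group, h, mul_one, mul_inv_cancel]

/-- A subgroup with at most twice as few elements contains all double transpositions. -/
theorem klein_le (I : Subgroup (Equiv.Perm (Fin 4))) (h : 12 ≤ Nat.card I) : klein ≤ I := by
  intro σ hσ
  obtain ⟨τ, rfl⟩ := exists_sqrt_klein σ hσ
  have hmul := card_mul_index I
  rw [Nat.card_perm, Nat.card_fin, show Nat.factorial 4 = 24 from rfl] at hmul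
  have : I.index = 1 ∨ I.index = 2 := by
    have : I.index ≤ 2 := by nlinarith
    have : I.index ≠ 0 := index_ne_zero_of_finite
    omega
  rcases this with h1 | h1
  · rw [index_eq_one.1 h1]; exact mem_top _
  · exact mul_self_mem_of_index_two h1 τ

/-- The centralizer of a subgroup of order three in two Sylow subgroups. -/
theorem centralizer_data (hG : ¬ IsMulCommutative G) (hn : Nat.card G = 720) {P Q : Sylow 3 G} (hQP : Q ≠ P)
    {D : Subgroup G} (hD3 : Nat.card D = 3) (hDP : D ≤ P) (hDQ : D ≤ Q) :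
    (Nat.card (centralizer (D : Set G)) = 36 ∨ Nat.card (centralizer (D : Set G)) = 72) ∧
      Nat.card (Sylow 3 ↥(centralizer (D : Set G))) = 4 := by
  have hle : ∀ R : Sylow 3 G, D ≤ R → (R : Subgroup G) ≤ centralizer (D : Set G) := by
    intro R hR
    haveI : IsMulCommutative ↥(R : Subgroup G) :=
      IsPGroup.isMulCommutative_of_card_eq_prime_sq (p := 3) (by rw [card_sylow_three hn]; rfl)
    exact (le_centralizer (R : Subgroup G)).trans (centralizer_le hR)
  set C := centralizer (D : Set G) with hCdef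
  obtain ⟨e, he⟩ : 9 ∣ Nat.card C := card_sylow_three hn P ▸ card_dvd_of_le (hle P hDP)
  have he16 : e ∣ 80 := by
    have h1 : 9 * e ∣ 9 * 80 := he ▸ (card_subgroup_dvd_card C).trans (hn.trans (by norm_num : (720:ℕ) = 9 * 80)).dvd
    exact Nat.dvd_of_mul_dvd_mul_left (by norm_num) h1
  have h5 : ¬ 5 ∣ e := by
    intro h5
    haveI : Fact (Nat.Prime 5) := ⟨by norm_num⟩
    obtain ⟨x, hx⟩ := exists_prime_orderOf_dvd_card' (G := C) 5 (he ▸ dvd_mul_of_dvd_right h5 9)
    obtain ⟨d, hd⟩ := exists_prime_orderOf_dvd_card' (G := D) 3 (by rw [hD3])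
    have h := eq_one_of_commute hn (x := (x : G)) (y := (d : G)) (by rw [Subgroup.orderOf_coe, hx])
      ((mem_centralizer_iff.1 x.2 _ d.2).symm) (by rw [Subgroup.orderOf_coe, hd]; norm_num)
    rw [← Subgroup.orderOf_coe, h, orderOf_one] at hd
    exact absurd hd (by norm_num)
  let P' : Sylow 3 C := P.subtype (hle P hDP)
  have hk1 : Nat.card (Sylow 3 C) ≠ 1 := by
    intro h1
    have hQ' : Q.subtype (hle Q hDQ) = P' := (Nat.card_eq_one_iff_unique.1 h1).1.elim _ _
    exact hQP (Sylow.subtype_injective hQ')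
  have hd3 : ¬ 3 ∣ e := fun h3 => absurd (h3.trans he16) (by norm_num)
  have hke : Nat.card (Sylow 3 C) ∣ e :=
    SmallGroups.card_sylow_dvd_of_card_eq (p := 3) (a := 2) (by rw [he]; rfl) hd3
  have hem : e ∈ Nat.divisors 80 := Nat.mem_divisors.2 ⟨he16, by norm_num⟩
  have hkm : Nat.card (Sylow 3 C) ∈ Nat.divisors e :=
    Nat.mem_divisors.2 ⟨hke, fun h => h5 (h ▸ dvd_zero 5)⟩
  have hmod := SmallGroups.mod_eq_one_card_sylow (p := 3) (G := C)
  have hall : ∀ f ∈ Nat.divisors 80, ¬ 5 ∣ f → ∀ j ∈ Nat.divisors f, j % 3 = 1 → j ≠ 1 →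
      ((f = 4 ∨ f = 8) ∧ j = 4) ∨ f = 16 := by decide +kernel
  rcases hall e hem h5 _ hkm hmod hk1 with ⟨hf, hj⟩ | rfl
  · exact ⟨by omega, hj⟩
  · exfalso
    have hi := card_mul_index C
    rw [he, hn] at hi
    have hC5 : C.index = 5 := by omega
    have := index_factorial hG hC5 (by norm_num)
    rw [hn] at this
    exact absurd (Nat.mod_eq_zero_of_dvd this) (by decide)

/-- Sylow subgroups have centralizers of odd order. -/
theorem odd_centralizer (hG : ¬ IsMulCommutative G) (hn : Nat.card G = 720) (P : Sylow 3 G) :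
    ¬ 2 ∣ Nat.card (centralizer ((P : Subgroup G) : Set G)) := by
  classical
  intro h2
  haveI : Fact (Nat.Prime 2) := ⟨Nat.prime_two⟩
  rcases ten_or_forty hG hn P with ⟨hk, hN⟩ | ⟨hk, hN⟩
  · obtain ⟨z, hz⟩ := exists_prime_orderOf_dvd_card' (G := centralizer ((P : Subgroup G) : Set G)) 2 h2
    have hz' : orderOf (z : G) = 2 := by rw [Subgroup.orderOf_coe, hz]
    haveI := Fintype.ofFinite (Sylow 3 G)
    let f := MulAction.toPermHom G (Sylow 3 G)
    have hinj : Function.Injective f := by
      refine SmallGroups.toPermHom_injective_of_not_trivial ?_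
      by_contra h
      push Not at h
      exact SmallGroups.normalizer_sylow_ne_top hG (by rw [hn]; norm_num) P
        (eq_top_iff.2 fun g _ => Sylow.smul_eq_iff_mem_normalizer.1 (h g P))
    have hsq : f (z : G) * f (z : G) = 1 := by
      have h := pow_orderOf_eq_one (z : G)
      rw [hz', pow_two] at h
      rw [← map_mul, h, map_one]
    have heven := even_card_support hsq
    have hsign := InvolChar.LargeExtraTransfer.sign_of_sq (f (z : G)) hsq
    rw [SmallGroups.sign_eq_one_of_simple hG f z] at hsign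
    have h3 : 3 ∣ (f (z : G)).support.card := by
      have hstab : ∀ (y : ↥(P : Subgroup G)) (R : Sylow 3 G), f (z : G) R ≠ R →
          f (z : G) ((y : G) • R) ≠ (y : G) • R := by
        intro y R hR h
        apply hR
        show (z : G) • R = R
        have h' : (z : G) • (y : G) • R = (y : G) • R := h
        rw [← mul_smul, ← mem_centralizer_iff.1 z.2 _ y.2, mul_smul] at h'
        exact smul_left_cancel (y : G) h'
      let S : SubMulAction ↥(P : Subgroup G) (Sylow 3 G) :=
        { carrier := {R | f (z : G) R ≠ R}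
          smul_mem' := fun y R hR => hstab y R hR }
      haveI := Fintype.ofFinite S
      have hm := P.2.card_modEq_card_fixedPoints S
      have h0 : Nat.card (MulAction.fixedPoints ↥(P : Subgroup G) S) = 0 := by
        rw [Nat.card_eq_zero]
        refine Or.inl ⟨fun R => R.1.2 ?_⟩
        have hRP : P = R.1.1 := SmallGroups.sylow_eq_of_normalizes P R.1.1 fun y hy =>
          Sylow.smul_eq_iff_mem_normalizer.1 (congrArg Subtype.val (R.2 ⟨y, hy⟩) :)
        show (z : G) • R.1.1 = R.1.1
        rw [← hRP]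
        exact Sylow.smul_eq_iff_mem_normalizer.2 (centralizer_le_normalizer _ z.2)
      rw [h0, Nat.modEq_zero_iff_dvd] at hm
      rw [← Nat.card_eq_fintype_card.trans (Fintype.card_coe _)]
      have hcongr : Nat.card ↥S = Nat.card ↥((f (z : G)).support) :=
        Nat.card_congr (Equiv.subtypeEquivRight fun R => Equiv.Perm.mem_support.symm)
      exact hcongr ▸ hm
    have hP : (f (z : G)).support.card ≤ 9 := by
      have : (f (z : G)).support ⊆ Finset.univ.erase P := fun R hR => Finset.mem_erase.2
        ⟨fun h => Equiv.Perm.mem_support.1 hR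
          (by subst h; exact Sylow.smul_eq_iff_mem_normalizer.2 (centralizer_le_normalizer _ z.2)), Finset.mem_univ _⟩
      refine (Finset.card_le_card this).trans ?_
      rw [Finset.card_erase_of_mem (Finset.mem_univ _), Finset.card_univ, ← Nat.card_eq_fintype_card, hk]
    have hne : (f (z : G)).support.card ≠ 0 := by
      intro h0
      rw [Finset.card_eq_zero, Equiv.Perm.support_eq_empty_iff, ← map_one f] at h0
      rw [hinj h0, orderOf_one] at hz'
      exact absurd hz' (by decide)
    have h6 : (f (z : G)).support.card = 6 := by omega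
    rw [h6] at hsign
    exact absurd hsign (by decide)
  · have hd : 3 ∣ Nat.card G := by rw [hn]; norm_num
    have hPc := card_sylow_three hn P
    haveI : IsMulCommutative ↥(P : Subgroup G) :=
      IsPGroup.isMulCommutative_of_card_eq_prime_sq (p := 3) (by rw [hPc]; rfl)
    refine SmallGroups.not_normalizer_le_centralizer hG hd P
      (eq_of_le_of_card_ge (centralizer_le_normalizer _) ?_).ge
    have h9 : 9 ∣ Nat.card (centralizer ((P : Subgroup G) : Set G)) :=
      hPc ▸ card_dvd_of_le (le_centralizer _)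
    have h18 : 18 ∣ Nat.card (centralizer ((P : Subgroup G) : Set G)) :=
      (Nat.Coprime.mul_dvd_of_dvd_of_dvd (by norm_num) h2 h9 : 2 * 9 ∣ _)
    rw [hN]
    exact Nat.le_of_dvd Nat.card_pos h18

set_option maxHeartbeats 1000000 in
/-- The centralizer has a four-group and lies in a subgroup of order `72`. -/
theorem exists_four_and_seventy_two (hG : ¬ IsMulCommutative G) (hn : Nat.card G = 720) {P Q : Sylow 3 G}
    (hQP : Q ≠ P) {D : Subgroup G} (hD3 : Nat.card D = 3) (hDP : D ≤ P) (hDQ : D ≤ Q) :
    ∃ V H : Subgroup G, V ≤ centralizer (D : Set G) ∧ Nat.card V = 4 ∧ (∀ v ∈ V, v * v = 1) ∧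
      centralizer (D : Set G) ≤ H ∧ Nat.card H = 72 := by
  classical
  haveI : Fact (Nat.Prime 2) := ⟨Nat.prime_two⟩
  obtain ⟨hCcard, hk⟩ := centralizer_data hG hn hQP hD3 hDP hDQ
  set C := centralizer (D : Set G) with hCdef
  have hPC : (P : Subgroup G) ≤ C := by
    haveI : IsMulCommutative ↥(P : Subgroup G) :=
      IsPGroup.isMulCommutative_of_card_eq_prime_sq (p := 3) (by rw [card_sylow_three hn]; rfl)
    exact (le_centralizer (P : Subgroup G)).trans (centralizer_le hDP)
  let P' : Sylow 3 C := P.subtype hPC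
  let e : Sylow 3 C ≃ Fin 4 := (Finite.equivFin _).trans (finCongr hk)
  let φ : C →* Equiv.Perm (Fin 4) := e.permCongrHom.toMonoidHom.comp (MulAction.toPermHom C (Sylow 3 C))
  have hker : ∀ g : C, g ∈ φ.ker ↔ ∀ R : Sylow 3 C, g • R = R := by
    intro g
    rw [MonoidHom.mem_ker]
    constructor
    · intro h R
      have h1 : MulAction.toPermHom C (Sylow 3 C) g = 1 := e.permCongrHom.injective (h.trans (map_one _).symm)
      exact congrArg (fun σ : Equiv.Perm _ => σ R) h1
    · intro h
      have h1 : MulAction.toPermHom C (Sylow 3 C) g = 1 := Equiv.ext h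
      show e.permCongrHom (MulAction.toPermHom C (Sylow 3 C) g) = 1
      rw [h1, map_one]
  set K := φ.ker with hKdef
  let D' : Subgroup C := D.subgroupOf C
  have hDC : D ≤ C := hDP.trans hPC
  have hD'c : Nat.card D' = 3 := by rw [Nat.card_congr (subgroupOfEquivOfLe hDC).toEquiv, hD3]
  have hD'K : D' ≤ K := fun d hd => (hker d).2 fun R => by
    have hcen : ∀ g : C, g * d = d * g := fun g =>
      Subtype.ext ((mem_centralizer_iff.1 g.2 (d : G) hd).symm)
    refine Sylow.smul_eq_iff_mem_normalizer.2 (mem_normalizer_iff.2 fun g => ?_)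
    rw [← hcen g, mul_inv_cancel_right]
  have hKN : K ≤ normalizer ((P' : Subgroup C) : Set C) := fun g hg =>
    Sylow.smul_eq_iff_mem_normalizer.1 ((hker g).1 hg P')
  have hP'c : Nat.card (P' : Subgroup C) = 9 := by
    rw [← card_sylow_three hn P]
    exact Nat.card_congr (subgroupOfEquivOfLe hPC).toEquiv
  have hNc : Nat.card (normalizer ((P' : Subgroup C) : Set C)) * 4 = Nat.card C := by
    rw [← hk, mul_comm]; exact SmallGroups.card_sylow_mul_card_normalizer P'
  have hKc : Nat.card K = 3 := by
    obtain ⟨j, hj⟩ := hD'c ▸ card_dvd_of_le hD'K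
    have hjdvd : 3 * j ∣ Nat.card C / 4 := by
      rw [← hj, ← hNc, Nat.mul_div_cancel _ (by norm_num)]; exact card_dvd_of_le hKN
    have hP'K : ¬ (P' : Subgroup C) ≤ K := by
      intro hle
      have : ∀ R : Sylow 3 C, R = P' := fun R =>
        (SmallGroups.sylow_eq_of_normalizes P' R fun y hy =>
          Sylow.smul_eq_iff_mem_normalizer.1 ((hker y).1 (hle hy) R)).symm
      have h1 : Nat.card (Sylow 3 C) = 1 := Nat.card_eq_one_iff_unique.2 ⟨⟨fun a b => (this a).trans (this b).symm⟩, ⟨P'⟩⟩
      omega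
    have hj3 : ¬ 3 ∣ j := by
      rintro ⟨i, rfl⟩
      have h9 : 3 ^ 2 ∣ Nat.card K := ⟨i, by rw [hj]; ring⟩
      obtain ⟨A, hA⟩ := Sylow.exists_subgroup_card_pow_prime 3 h9
      have hAc : Nat.card (A.map K.subtype) = 9 := by rw [card_map_of_injective K.subtype_injective, hA]; rfl
      obtain ⟨R, hR⟩ := (IsPGroup.of_card (n := 2) hAc : IsPGroup 3 (A.map K.subtype)).exists_le_sylow
      have hAR : A.map K.subtype = (R : Subgroup C) := eq_of_le_of_card_ge hR (by
        rw [hAc, ← hP'c, R.card_eq_multiplicity, P'.card_eq_multiplicity])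
      obtain ⟨g, hg⟩ := MulAction.exists_smul_eq C R P'
      refine hP'K fun y hy => ?_
      rw [← hg, Sylow.coe_subgroup_smul, mem_pointwise_smul_iff_inv_smul_mem, ← hAR] at hy
      obtain ⟨a, -, ha⟩ := hy
      have hyK : g⁻¹ * y * g ∈ K := by
        have : K.subtype a = g⁻¹ * y * g := by simpa [MulAut.smul_def] using ha
        exact this ▸ a.2
      have := (MonoidHom.normal_ker φ).conj_mem _ hyK g
      rw [show y = g * (g⁻¹ * y * g) * g⁻¹ by group]
      exact this
    have hj12 : j = 1 ∨ j = 2 := by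
      have hdiv : ∀ i ∈ Nat.divisors 18, ∀ j ≤ 18, 3 * j = i → ¬ 3 ∣ j → j = 1 ∨ j = 2 := by decide +kernel
      rcases hCcard with h | h <;> rw [h] at hjdvd
      · exact hdiv _ (Nat.mem_divisors.2 ⟨hjdvd.trans (by norm_num), by norm_num⟩) j
          (by have := Nat.le_of_dvd (by norm_num) hjdvd; omega) rfl hj3
      · exact hdiv _ (Nat.mem_divisors.2 ⟨hjdvd.trans (by norm_num), by norm_num⟩) j
          (by have := Nat.le_of_dvd (by norm_num) hjdvd; omega) rfl hj3
    rcases hj12 with rfl | rfl
    · exact hj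
    exfalso
    -- the involution of a kernel of order six would centralize `P`
    obtain ⟨z, hz⟩ := exists_prime_orderOf_dvd_card' (G := K) 2 (by rw [hj]; norm_num)
    have hz1 : (z : C) ≠ 1 := fun h => by
      rw [← Subgroup.orderOf_coe, h, orderOf_one] at hz; exact absurd hz (by decide)
    have hcomm : ∀ y ∈ (P' : Subgroup C), y * (z : C) * y⁻¹ = z := by
      intro y hy
      have hzN := hKN z.2
      have hw : y * (z : C) * y⁻¹ * (z : C)⁻¹ ∈ (P' : Subgroup C) ⊓ K := mem_inf.2
        ⟨by
          have := (mem_normalizer_iff.1 hzN y⁻¹).1 (inv_mem hy)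
          have h2 := mul_mem hy this
          show y * (z : C) * y⁻¹ * (z : C)⁻¹ ∈ (P' : Subgroup C)
          rw [show y * (z : C) * y⁻¹ * (z : C)⁻¹ = y * ((z : C) * y⁻¹ * (z : C)⁻¹) by group]
          exact h2,
         mul_mem ((MonoidHom.normal_ker φ).conj_mem _ z.2 y) (inv_mem z.2)⟩
      have hPK : (P' : Subgroup C) ⊓ K = D' := by
        refine (eq_of_le_of_card_ge (le_inf (show D' ≤ (P' : Subgroup C) from fun d hd => hDP hd) hD'K) ?_).symm
        have h1 : Nat.card ↥((P' : Subgroup C) ⊓ K) ∣ 9 := hP'c ▸ card_dvd_of_le inf_le_left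
        have h2 : Nat.card ↥((P' : Subgroup C) ⊓ K) ∣ 6 := (card_dvd_of_le inf_le_right).trans (hj.trans (by norm_num)).dvd
        exact (Nat.le_of_dvd (by norm_num) (Nat.dvd_gcd h1 h2)).trans hD'c.ge
      rw [hPK] at hw
      set d := y * (z : C) * y⁻¹ * (z : C)⁻¹ with hd
      have hdz : d * z = z * d := Subtype.ext (mem_centralizer_iff.1 (z : C).2 (d : G) hw)
      have hzz : (z : C) * z = 1 := by
        have h := pow_orderOf_eq_one (z : C)
        rw [Subgroup.orderOf_coe, hz, pow_two] at h
        exact h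
      have hconj : y * (z : C) * y⁻¹ = d * z := by rw [hd]; group
      have hd2 : d ^ 2 = 1 := by
        have h1 : (y * (z : C) * y⁻¹) * (y * (z : C) * y⁻¹) = 1 := by
          rw [show y * (z : C) * y⁻¹ * (y * z * y⁻¹) = y * (z * z) * y⁻¹ by group, hzz]; group
        rw [hconj] at h1
        rw [pow_two, ← h1, mul_assoc d (z : C), ← mul_assoc (z : C) d, ← hdz, mul_assoc d (z : C) z, hzz,
          mul_one]
      have hd3 : d ^ 3 = 1 := by
        have h := pow_card_eq_one' (x := (⟨d, hw⟩ : D'))
        rw [hD'c] at h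
        exact congrArg Subtype.val h
      have hd1 : d = 1 := by
        have := hd3
        rwa [pow_succ, hd2, one_mul] at this
      rw [hconj, hd1, one_mul]
    refine odd_centralizer hG hn P ?_
    have hzC : ((z : C) : G) ∈ centralizer ((P : Subgroup G) : Set G) := by
      rw [mem_centralizer_iff]
      intro y hy
      have h := congrArg Subtype.val (mul_inv_eq_iff_eq_mul.1 (hcomm ⟨y, hPC hy⟩ hy))
      exact h
    have hzo : orderOf ((z : C) : G) = 2 := by rw [Subgroup.orderOf_coe, Subgroup.orderOf_coe, hz]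
    rw [← hzo, ← Subgroup.orderOf_mk (ha := hzC)]
    exact _root_.orderOf_dvd_natCard _
  have hrange : 12 ≤ Nat.card φ.range := by
    have h := φ.ker.card_mul_index
    rw [index_ker, ← hKdef, hKc] at h
    omega
  let M : Subgroup C := klein.comap φ
  have hMc : Nat.card M = 12 := by
    have h1 := (φ.comp M.subtype).ker.card_mul_index
    rw [index_ker] at h1
    have hr : (φ.comp M.subtype).range = klein := by
      rw [MonoidHom.range_comp, range_subtype]
      exact map_comap_eq_self (klein_le _ hrange)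
    have hkc : Nat.card (φ.comp M.subtype).ker = 3 := by
      rw [← hKc]
      refine Nat.card_congr
        { toFun := fun g => ⟨g.1.1, g.2⟩
          invFun := fun g => ⟨⟨g.1, by
            show φ g.1 ∈ klein
            rw [(g.2 : φ g.1 = 1)]; exact one_mem _⟩, g.2⟩
          left_inv := fun g => rfl
          right_inv := fun g => rfl }
    rw [hr, card_klein, hkc] at h1
    omega
  have hKD : K = D' := (eq_of_le_of_card_ge hD'K (by rw [hKc, hD'c])).symm
  have hcenD : ∀ d ∈ D', ∀ g : C, g * d = d * g := fun d hd g =>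
    Subtype.ext ((mem_centralizer_iff.1 g.2 (d : G) hd).symm)
  have hsq : ∀ m ∈ M, m * m ∈ D' := by
    intro m hm
    rw [← hKD, hKdef, MonoidHom.mem_ker, map_mul]
    rcases (hm : φ m ∈ klein) with h | ⟨h, -⟩
    · rw [h, one_mul]
    · exact h
  have hcube : ∀ d ∈ D', d ^ 3 = 1 := fun d hd => by
    have h := pow_card_eq_one' (x := (⟨d, hd⟩ : D'))
    rw [hD'c] at h
    exact congrArg Subtype.val h
  let V' : Subgroup C :=
    { carrier := {m | m ∈ M ∧ m * m = 1}
      one_mem' := ⟨one_mem M, one_mul 1⟩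
      inv_mem' := fun {a} ha => ⟨inv_mem ha.1, by rw [← mul_inv_rev, ha.2, inv_one]⟩
      mul_mem' := fun {a b} ha hb => by
        refine ⟨mul_mem ha.1 hb.1, ?_⟩
        have hd := hsq _ (mul_mem ha.1 hb.1)
        set d := a * b * (a * b) with hddef
        have hainv : a⁻¹ = a := inv_eq_of_mul_eq_one_right ha.2
        have hbinv : b⁻¹ = b := inv_eq_of_mul_eq_one_right hb.2
        have h1 : a * d * a⁻¹ = d⁻¹ := by
          rw [hddef, mul_inv_rev, mul_inv_rev, hainv, hbinv]
          calc a * (a * b * (a * b)) * a = (a * a) * (b * a * b) * a := by group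
            _ = b * a * (b * a) := by rw [ha.2]; group
        rw [hcenD d hd a, mul_inv_cancel_right] at h1
        have h2 : d ^ 2 = 1 := by rw [pow_two]; nth_rw 1 [h1]; exact inv_mul_cancel d
        have h3 := hcube d hd
        rwa [pow_succ, h2, one_mul] at h3 }
  have hVc : Nat.card V' = 4 := by
    have hinj : Function.Injective ((φ.comp V'.subtype)) := by
      rw [← MonoidHom.ker_eq_bot_iff, eq_bot_iff]
      intro v hv
      have hvD : (v : C) ∈ D' := hKD ▸ (hv : (v : C) ∈ K)
      rw [mem_bot]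
      refine Subtype.ext ?_
      have h3 := hcube _ hvD
      rwa [pow_succ, pow_two, v.2.2, one_mul] at h3
    have hr : (φ.comp V'.subtype).range = klein := by
      refine le_antisymm ?_ fun σ hσ => ?_
      · rintro _ ⟨v, rfl⟩; exact v.2.1
      · obtain ⟨g, rfl⟩ := klein_le _ hrange hσ
        have hd := hsq g hσ
        -- the square root of unity in the coset
        refine ⟨⟨g * (g * g), mul_mem (mem_comap.2 hσ) (hKD.ge.trans ?_ hd), ?_⟩, ?_⟩
        · intro d hd; exact mem_comap.2 (by rw [(hd : φ d = 1)]; exact one_mem _)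
        · have h3 := hcube _ hd
          rw [← h3, pow_succ, pow_two]
          simp only [mul_assoc]
        · show φ (g * (g * g)) = φ g
          rw [map_mul, (MonoidHom.mem_ker.1 (hKD ▸ hd : g * g ∈ K)), mul_one]
    rw [Nat.card_congr (MonoidHom.ofInjective hinj).toEquiv, hr, card_klein]
  let V : Subgroup G := V'.map C.subtype
  have hV1 : Nat.card V = 4 := by rw [card_map_of_injective C.subtype_injective, hVc]
  have hV2 : ∀ v ∈ V, v * v = 1 := by
    rintro _ ⟨v, hv, rfl⟩
    exact congrArg Subtype.val hv.2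
  rcases hCcard with h36 | h72
  swap
  · exact ⟨V, C, map_subtype_le V', hV1, hV2, le_rfl, h72⟩
  have hCN : C ≤ normalizer (V : Set G) := by
    have hMn : M.Normal := ⟨fun m hm g => by
      show φ (g * m * g⁻¹) ∈ klein
      rw [map_mul, map_mul, map_inv]
      exact klein_normal _ hm _⟩
    intro c hc
    refine mem_normalizer_fintype fun v hv => ?_
    obtain ⟨v, hv, rfl⟩ := hv
    have hw1 : (⟨c, hc⟩ : C) * v * (⟨c, hc⟩ : C)⁻¹ ∈ M := hMn.conj_mem v hv.1 ⟨c, hc⟩
    have hw2 := conj_mul_self (⟨c, hc⟩ : C) hv.2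
    exact mem_map.2 ⟨_, (show _ ∈ V' from ⟨hw1, hw2⟩), rfl⟩
  refine ⟨V, normalizer (V : Set G), map_subtype_le V', hV1, hV2, ?_, ?_⟩
  · exact hCN
  · have hVp : IsPGroup 2 V := IsPGroup.of_card (n := 2) hV1
    obtain ⟨S, hS⟩ := hVp.exists_le_sylow
    have hSc : Nat.card (S : Subgroup G) = 16 := by
      simpa using SmallGroups.card_sylow_eq (p := 2) (a := 4) (m := 45) (by rw [hn]; rfl) (by decide) S
    have h8 : 8 ∣ Nat.card (normalizer (V : Set G)) := by
      have hlt : V.subgroupOf (S : Subgroup G) < ⊤ := lt_top_iff_ne_top.2 fun h => by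
        have := congrArg (fun K : Subgroup ↥(S : Subgroup G) => Nat.card K) h
        simp only [card_top, Nat.card_congr (subgroupOfEquivOfLe hS).toEquiv, hV1, hSc] at this
        omega
      haveI := S.2.isNilpotent
      have hgt := Group.normalizerCondition_of_isNilpotent _ hlt
      set N := normalizer ((V.subgroupOf (S : Subgroup G)) : Set ↥(S : Subgroup G)) with hNdef
      obtain ⟨i, hi⟩ := (S.2.to_subgroup N).exists_card_eq
      have h4 : 4 < Nat.card N := by
        have hV' : Nat.card (V.subgroupOf (S : Subgroup G)) = 4 := by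
          rw [Nat.card_congr (subgroupOfEquivOfLe hS).toEquiv, hV1]
        by_contra hle
        exact hgt.ne (eq_of_le_of_card_ge hgt.le (by omega))
      have h8' : 8 ∣ Nat.card N := by
        rw [hi] at h4 ⊢
        have : 3 ≤ i := by
          by_contra hlt'
          interval_cases i <;> omega
        exact (show 8 = 2 ^ 3 from rfl) ▸ pow_dvd_pow 2 this
      refine h8'.trans ?_
      rw [← card_map_of_injective (S : Subgroup G).subtype_injective]
      refine card_dvd_of_le ?_
      rintro _ ⟨s, hs, rfl⟩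
      refine mem_normalizer_fintype fun v hv => ?_
      exact (mem_normalizer_iff.1 hs ⟨v, hS hv⟩).1 hv
    have h36 : 36 ∣ Nat.card (normalizer (V : Set G)) := h36 ▸ card_dvd_of_le hCN
    have h72 : 72 ∣ Nat.card (normalizer (V : Set G)) :=
      (show Nat.lcm 8 36 = 72 from rfl) ▸ Nat.lcm_dvd h8 h36
    obtain ⟨i, hi⟩ := h72
    have hmul := card_mul_index (normalizer (V : Set G))
    rw [hi, hn, mul_assoc] at hmul
    have hii : i * (normalizer (V : Set G)).index = 10 := by omega
    have hidx : (normalizer (V : Set G)).index ∈ Nat.divisors 10 :=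
      Nat.mem_divisors.2 ⟨⟨i, by rw [mul_comm]; exact hii.symm⟩, by norm_num⟩
    have hdiv : ∀ j ∈ Nat.divisors 10, j = 10 ∨ j = 1 ∨ j.factorial % (2 * 720) ≠ 0 := by decide +kernel
    rcases hdiv _ hidx with h | h | h
    · rw [h] at hii
      rw [hi]; omega
    · exfalso
      have hVn : V.Normal := normalizer_eq_top_iff.1 (index_eq_one.1 h)
      rcases IsSimpleGroup.eq_bot_or_eq_top_of_normal V hVn with h' | h'
      · rw [h', card_bot] at hV1; omega
      · rw [h', card_top, hn] at hV1; omega
    · have hne : (normalizer (V : Set G)).index ≠ 1 := by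
        intro h1
        have hVn : V.Normal := normalizer_eq_top_iff.1 (index_eq_one.1 h1)
        rcases IsSimpleGroup.eq_bot_or_eq_top_of_normal V hVn with h' | h'
        · rw [h', card_bot] at hV1; omega
        · rw [h', card_top, hn] at hV1; omega
      have := index_factorial hG rfl hne
      rw [hn] at this
      exact absurd (Nat.mod_eq_zero_of_dvd this) h

end CfsgLib.SmallSimple.AtMost1092.Sev20
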