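import Cfsg.Agent.Lib.SmallSimple.AtMost1092.Tools
import Cfsg.Agent.Lib.InvolChar.LargeExtraTransfer
import Cfsg.Agent.Lib.Transfer.HallWielandt
import Cfsg.Agent.Lib.PGroup.Basic

/-!
Local arguments for small orders: Sylow intersections, commuting permutations, transfer.
-/

set_option autoImplicit false

namespace CfsgLib.SmallSimple.AtMost1092

open Subgroup CfsgLib

variable {G : Type*} [Group G] [Finite G] {p : ℕ} [hp : Fact p.Prime]

/-- A permutation of prime exponent `q` with a single fixed point, preserved by a commuting permutation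
fixing it, has support divisible by `q`. -/
theorem dvd_card_support {α : Type*} [Fintype α] [DecidableEq α] {q : ℕ} [Fact q.Prime]
    {σ τ : Equiv.Perm α} (hτ : τ ^ q = 1) {ω : α} (huniq : ∀ a, τ a = a → a = ω) (hσ : σ ω = ω)
    (hc : Commute σ τ) : q ∣ σ.support.card := by
  have hiff : ∀ a, τ a ∈ σ.support ↔ a ∈ σ.support := fun a => by
    rw [Equiv.Perm.mem_support, Equiv.Perm.mem_support,
      show σ (τ a) = τ (σ a) from congrArg (fun e : Equiv.Perm α => e a) hc.eq, τ.injective.ne_iff]
  let τ' : Equiv.Perm {a // a ∈ σ.support} := τ.subtypePerm hiff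
  have hτ' : τ' ^ q = 1 := by
    ext a
    simp [τ', Equiv.Perm.subtypePerm_pow, hτ]
  have h := KnownSimple.Order7920.perm_fixed_modEq τ' hτ'
  have h0 : Nat.card {a : {a // a ∈ σ.support} // τ' a = a} = 0 := by
    rw [Nat.card_eq_zero]
    left
    refine ⟨fun ⟨⟨a, ha⟩, h⟩ => ?_⟩
    have : τ a = a := congrArg Subtype.val h
    rw [huniq a this, Equiv.Perm.mem_support] at ha
    exact ha hσ
  rw [h0, Nat.modEq_zero_iff_dvd, Nat.card_eq_fintype_card, Fintype.card_coe] at h
  exact h

/-- The stabilizer of one Sylow subgroup in another is their intersection. -/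
theorem stabilizer_eq_inf (P Q : Sylow p G) :
    (MulAction.stabilizer ↥(P : Subgroup G) Q).map (P : Subgroup G).subtype =
      (P : Subgroup G) ⊓ (Q : Subgroup G) := by
  ext g
  constructor
  · rintro ⟨y, hy, rfl⟩
    refine ⟨y.2, ?_⟩
    have h1 : (y : G) ∈ normalizer ((Q : Subgroup G) : Set G) := Sylow.smul_eq_iff_mem_normalizer.1 hy
    have e : (P : Subgroup G) ⊓ normalizer ((Q : Subgroup G) : Set G) = (P : Subgroup G) ⊓ (Q : Subgroup G) :=
      P.2.inf_normalizer_sylow Q
    exact (e.le ⟨y.2, h1⟩).2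
  · rintro ⟨hP, hQ⟩
    exact ⟨⟨g, hP⟩, (Sylow.smul_eq_iff_mem_normalizer.2 (Subgroup.le_normalizer hQ) :), rfl⟩

/-- When the Sylow number is not `1` modulo `p ^ 2` some intersection has index `p`. -/
theorem exists_inter_of_mod (P : Sylow p G) (h : Nat.card (Sylow p G) % p ^ 2 ≠ 1) :
    ∃ Q : Sylow p G, Q ≠ P ∧
      Nat.card ↥((P : Subgroup G) ⊓ (Q : Subgroup G)) * p = Nat.card (P : Subgroup G) := by
  classical
  by_contra hne
  push Not at hne
  have hfixP : ∀ y : ↥(P : Subgroup G), y • P = P := fun y =>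
    Sylow.smul_eq_iff_mem_normalizer.2 (Subgroup.le_normalizer y.2)
  let Rest : SubMulAction ↥(P : Subgroup G) (Sylow p G) :=
    { carrier := {Q | Q ≠ P}
      smul_mem' := fun y Q hQ h => hQ (by rw [← inv_smul_smul y Q, h, hfixP]) }
  haveI : Fintype Rest := Fintype.ofFinite _
  haveI : ∀ a : Rest, Fintype (MulAction.orbit ↥(P : Subgroup G) a) := fun _ => Fintype.ofFinite _
  haveI : Fintype (MulAction.orbitRel.Quotient ↥(P : Subgroup G) Rest) := Fintype.ofFinite _
  have horb : ∀ a : Rest, p ^ 2 ∣ Nat.card (MulAction.orbit ↥(P : Subgroup G) a) := by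
    intro a
    haveI := Fintype.ofFinite ↥(P : Subgroup G)
    haveI := Fintype.ofFinite ↥(MulAction.stabilizer ↥(P : Subgroup G) a)
    have h1 := MulAction.card_orbit_mul_card_stabilizer_eq_card_group ↥(P : Subgroup G) a
    rw [← Nat.card_eq_fintype_card, ← Nat.card_eq_fintype_card, ← Nat.card_eq_fintype_card,
      SubMulAction.stabilizer_of_subMul a,
      ← card_map_of_injective (P : Subgroup G).subtype_injective,
      stabilizer_eq_inf P a.1] at h1
    obtain ⟨i, hi⟩ : ∃ i, Nat.card (MulAction.orbit ↥(P : Subgroup G) a) = p ^ i :=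
      P.2.card_orbit a
    rcases Nat.lt_or_ge i 2 with hi2 | hi2
    · exfalso
      interval_cases i
      · rw [pow_zero] at hi
        rw [hi, one_mul] at h1
        have hle : (P : Subgroup G) ≤ (a.1 : Subgroup G) := by
          have := eq_of_le_of_card_ge (inf_le_left : (P : Subgroup G) ⊓ (a.1 : Subgroup G) ≤ _) h1.ge
          exact this.ge.trans inf_le_right
        exact a.2 (SmallGroups.sylow_eq_of_normalizes P a.1 (hle.trans Subgroup.le_normalizer)).symm
      · rw [pow_one] at hi
        rw [hi, mul_comm] at h1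
        exact hne a.1 a.2 h1
    · exact (pow_dvd_pow p hi2).trans hi.symm.dvd
  have hsum : p ^ 2 ∣ Nat.card Rest := by
    rw [Nat.card_congr (MulAction.selfEquivSigmaOrbits ↥(P : Subgroup G) Rest), Nat.card_sigma]
    exact Finset.dvd_sum fun ω _ => horb _
  have hcount : Nat.card Rest + 1 = Nat.card (Sylow p G) := by
    haveI := Fintype.ofFinite (Sylow p G)
    have h1 : Nat.card Rest = Nat.card {Q : Sylow p G // Q ≠ P} := rfl
    rw [h1, Nat.card_eq_fintype_card, Nat.card_eq_fintype_card, Fintype.card_subtype_compl,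
      Fintype.card_subtype_eq]
    have : 0 < Fintype.card (Sylow p G) := Fintype.card_pos_iff.2 ⟨P⟩
    omega
  obtain ⟨c, hc⟩ := hsum
  apply h
  rw [← hcount, hc, Nat.mul_add_mod, Nat.one_mod_eq_one.2]
  exact (Nat.one_lt_pow two_ne_zero hp.out.one_lt).ne'

/-- An intersection of index `p` is normalized by both Sylow subgroups. -/
theorem le_normalizer_inter {P Q : Sylow p G}
    (h : Nat.card ↥((P : Subgroup G) ⊓ (Q : Subgroup G)) * p = Nat.card (P : Subgroup G)) :
    (P : Subgroup G) ≤ normalizer (((P : Subgroup G) ⊓ (Q : Subgroup G) : Subgroup G) : Set G) := by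
  set D := (P : Subgroup G) ⊓ (Q : Subgroup G) with hD
  have hidx : (D.subgroupOf (P : Subgroup G)).index = p := by
    have h1 := card_mul_index (D.subgroupOf (P : Subgroup G))
    rw [Nat.card_congr (subgroupOfEquivOfLe (inf_le_left : D ≤ _)).toEquiv, ← h] at h1
    exact Nat.eq_of_mul_eq_mul_left Nat.card_pos h1
  haveI : (D.subgroupOf (P : Subgroup G)).Normal := by
    refine normal_of_index_eq_minFac_card ?_
    obtain ⟨i, hi⟩ := P.2.exists_card_eq
    have hi0 : i ≠ 0 := fun h0 => by
      rw [hi, h0, pow_zero] at h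
      exact hp.out.one_lt.ne' (Nat.eq_one_of_mul_eq_one_left h)
    rw [hidx, hi, hp.out.pow_minFac hi0]
  exact normal_subgroupOf_iff_le_normalizer (inf_le_left : D ≤ _) |>.1 inferInstance

variable [IsSimpleGroup G]

/-- A subgroup containing two Sylow subgroups is never a Sylow normalizer of the smallest kind. -/
theorem card_ne_of_two_sylow {P Q : Sylow p G} (hPQ : Q ≠ P) {X : Subgroup G}
    (hP : (P : Subgroup G) ≤ X) (hQ : (Q : Subgroup G) ≤ X) :
    Nat.card (P : Subgroup G) ∣ Nat.card X ∧ Nat.card X ≠ Nat.card (P : Subgroup G) := by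
  refine ⟨card_dvd_of_le hP, fun h => hPQ (Sylow.ext ?_)⟩
  have hX : (P : Subgroup G) = X := eq_of_le_of_card_ge hP h.le
  exact (Q.3 P.2 (hX ▸ hQ)).symm

/-- Hall and Wielandt: a self-normalizing Sylow subgroup of class at most two at an odd prime. -/
theorem not_selfNormalizing (hG : ¬ IsMulCommutative G) (hp2 : p ≠ 2) (P : Sylow p G) {r : ℕ}
    (hr : r.Prime) (hrp : r ≠ p) (hrG : r ∣ Nat.card G) (hP : (P : Subgroup G) ≠ ⊥)
    (hclass : ∀ u v : ↥(P : Subgroup G), u⁻¹ * v⁻¹ * u * v ∈ center ↥(P : Subgroup G))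
    (hN : normalizer ((P : Subgroup G) : Set G) = (P : Subgroup G)) : False := by
  haveI : Fact r.Prime := ⟨hr⟩
  have hres : Cfsg.pResidual p G = ⊤ := by
    obtain ⟨y, hy⟩ := exists_prime_orderOf_dvd_card' (G := G) r hrG
    have hle : normalClosure ({y} : Set G) ≤ Cfsg.pResidual p G := by
      rw [normalClosure, closure_le]
      intro z hz
      refine subset_closure ?_
      obtain ⟨w, hw, hzw⟩ := Group.mem_conjugatesOfSet_iff.1 hz
      rw [Set.mem_singleton_iff] at hw
      obtain ⟨g, hg⟩ := isConj_iff.1 hzw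
      show Nat.Coprime (orderOf z) p
      rw [← hg, hw, ← MulAut.conj_apply, MulEquiv.orderOf_eq, hy]
      exact (Nat.coprime_primes hr hp.out).2 hrp
    rcases IsSimpleGroup.eq_bot_or_eq_top_of_normal (normalClosure ({y} : Set G)) normalClosure_normal
      with h | h
    · have hy1 : y ∈ normalClosure ({y} : Set G) := subset_normalClosure rfl
      rw [h, mem_bot] at hy1
      rw [hy1, orderOf_one] at hy
      exact absurd hy.symm hr.ne_one
    · exact top_le_iff.1 (h ▸ hle)
  have hW : Cfsg.IsWeaklyClosed (P : Subgroup G) (P : Subgroup G) := ⟨le_rfl, fun g hg =>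
    eq_of_le_of_card_ge hg (card_map_of_injective (MulAut.conj g).injective).ge⟩
  have hz : ∀ u ∈ (P : Subgroup G), ∀ z ∈ (P : Subgroup G),
      (fun y : G => y⁻¹ * z⁻¹ * y * z)^[p - 1] u = 1 := by
    intro u hu z hz
    set f := fun y : G => y⁻¹ * z⁻¹ * y * z with hf
    have h2 : f (f u) = 1 := by
      have h1 := mem_center_iff.1 (hclass ⟨u, hu⟩ ⟨z, hz⟩) ⟨z, hz⟩
      have h3 : z * f u = f u * z := congrArg Subtype.val h1
      show (f u)⁻¹ * z⁻¹ * f u * z = 1
      rw [mul_assoc _ (f u) z, ← h3]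
      group
    have hone : f 1 = 1 := by simp [hf]
    obtain ⟨k, hk⟩ : ∃ k, p - 1 = k + 2 := ⟨p - 3, by have := hp.out.two_le; omega⟩
    rw [hk, Function.iterate_add_apply, show f^[2] u = f (f u) from rfl, h2, Function.iterate_fixed hone]
  haveI : Nontrivial ↥(P : Subgroup G) := (Subgroup.nontrivial_iff_ne_bot _).2 hP
  obtain ⟨M, hM⟩ : ∃ M : Subgroup ↥(P : Subgroup G), IsCoatom M := by
    rcases eq_top_or_exists_le_coatom (⊥ : Subgroup ↥(P : Subgroup G)) with h | ⟨M, hM, -⟩
    · exact absurd h bot_ne_top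
    · exact ⟨M, hM⟩
  haveI := CfsgLib.PGroup.normal_of_isCoatom P.2 hM
  have hMi : M.index = p := CfsgLib.PGroup.index_of_isCoatom P.2 hM
  haveI : IsCyclic (↥(P : Subgroup G) ⧸ M) := isCyclic_of_prime_card (p := p) (by rw [← index, hMi])
  letI : CommGroup (↥(P : Subgroup G) ⧸ M) := IsCyclic.commGroup
  have hA : ∀ a : ↥(P : Subgroup G) ⧸ M, a ^ p = 1 := fun a => by
    have h := pow_card_eq_one' (x := a)
    rwa [← index, hMi] at h
  have key := Transfer.hom_eq_one_of_engel P hW hz hA
    ((QuotientGroup.mk' M).comp (inclusion hN.le))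
  apply hM.1
  rw [eq_top_iff]
  intro u _
  have := key u.1 (hN.ge u.2) u.2 (hres ▸ mem_top _)
  exact (QuotientGroup.eq_one_iff u).1 this

end CfsgLib.SmallSimple.AtMost1092
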