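import Cfsg.Agent.Lib.SmallSimple.AtMost1092.Intersection

/-!
In a simple group of order 720 the Sylow 3-subgroups meet trivially and number ten.
-/

set_option autoImplicit false

namespace CfsgLib.SmallSimple.AtMost1092.Sev20

open Subgroup CfsgLib

variable {G : Type*} [Group G] [Finite G] [IsSimpleGroup G]

/-- A permutation of prime exponent `q` cuts a multiple of `q` out of the support of a commuting one. -/
theorem dvd_card_inter_support {α : Type*} [Fintype α] [DecidableEq α] {q : ℕ} [Fact q.Prime]
    {σ τ : Equiv.Perm α} (hσ : σ ^ q = 1) (hc : Commute σ τ) :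
    q ∣ (τ.support ∩ σ.support).card := by
  have hiff : ∀ a, σ a ∈ τ.support ∩ σ.support ↔ a ∈ τ.support ∩ σ.support := fun a => by
    rw [Finset.mem_inter, Finset.mem_inter, Equiv.Perm.apply_mem_support]
    refine and_congr_left fun _ => ?_
    rw [Equiv.Perm.mem_support, Equiv.Perm.mem_support,
      show τ (σ a) = σ (τ a) from congrArg (fun e : Equiv.Perm α => e a) hc.symm.eq, σ.injective.ne_iff]
  let σ' : Equiv.Perm {a // a ∈ τ.support ∩ σ.support} := σ.subtypePerm hiff
  have hσ' : σ' ^ q = 1 := by
    ext a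
    simp [σ', Equiv.Perm.subtypePerm_pow, hσ]
  have h := KnownSimple.Order7920.perm_fixed_modEq σ' hσ'
  have h0 : Nat.card {a : {a // a ∈ τ.support ∩ σ.support} // σ' a = a} = 0 := by
    rw [Nat.card_eq_zero]
    left
    refine ⟨fun ⟨⟨a, ha⟩, h⟩ => ?_⟩
    exact Equiv.Perm.mem_support.1 (Finset.mem_inter.1 ha).2 (congrArg Subtype.val h)
  rw [h0, Nat.modEq_zero_iff_dvd, Nat.card_eq_fintype_card, Fintype.card_coe] at h
  exact h

/-- The sign of a nontrivial involutive permutation of three letters. -/
theorem sign_of_three {α : Type*} [Fintype α] [DecidableEq α] (h3 : Fintype.card α = 3)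
    {σ : Equiv.Perm α} (h : σ * σ = 1) (h1 : σ ≠ 1) : Equiv.Perm.sign σ = -1 := by
  have he := even_card_support h
  have hle : σ.support.card ≤ 3 := h3 ▸ Finset.card_le_univ _
  have h2 := Equiv.Perm.one_lt_card_support_of_ne_one h1
  have : σ.support.card = 2 := by omega
  rw [InvolChar.LargeExtraTransfer.sign_of_sq σ h, this]
  rfl

/-- Sylow subgroups at three meet trivially. -/
theorem inter_trivial (hG : ¬ IsMulCommutative G) (hn : Nat.card G = 720) {P Q : Sylow 3 G} (hQP : Q ≠ P) :
    (P : Subgroup G) ⊓ (Q : Subgroup G) = ⊥ := by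
  classical
  haveI : Fact (Nat.Prime 2) := ⟨Nat.prime_two⟩
  set D := (P : Subgroup G) ⊓ (Q : Subgroup G) with hDdef
  by_contra hD
  have hD3 : Nat.card D = 3 := by
    have h9 : Nat.card D ∈ Nat.divisors 9 :=
      Nat.mem_divisors.2 ⟨card_sylow_three hn P ▸ card_dvd_of_le inf_le_left, by norm_num⟩
    have hall : ∀ j ∈ Nat.divisors 9, j = 1 ∨ j = 3 ∨ j = 9 := by decide +kernel
    rcases hall _ h9 with h | h | h
    · exact absurd (card_eq_one.1 h) hD
    · exact h
    · exfalso
      have h1 : D = (P : Subgroup G) := eq_of_le_of_card_ge inf_le_left (by rw [h, card_sylow_three hn P])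
      exact hQP (Sylow.ext (P.3 Q.2 (h1.ge.trans inf_le_right)))
  obtain ⟨V, H, hVC, hV4, hV2, hCH, hH⟩ :=
    exists_four_and_seventy_two hG hn hQP hD3 inf_le_left inf_le_right
  have hidx : H.index = 10 := by
    have h := card_mul_index H
    rw [hH, hn] at h
    omega
  haveI := Fintype.ofFinite (G ⧸ H)
  have hc10 : Fintype.card (G ⧸ H) = 10 := by rw [← Nat.card_eq_fintype_card]; exact hidx
  let f := MulAction.toPermHom G (G ⧸ H)
  let ω : G ⧸ H := ((1 : G) : G ⧸ H)
  have hstab : MulAction.stabilizer G ω = H := MulAction.stabilizer_quotient H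
  have hfix : ∀ g ∈ H, f g ω = ω := fun g hg => (hstab.ge hg : g ∈ MulAction.stabilizer G ω)
  have hinj : Function.Injective f := by
    refine SmallGroups.toPermHom_injective_of_not_trivial ?_
    by_contra h
    push Not at h
    have : H = ⊤ := eq_top_iff.2 fun g _ => hstab.le (h g ω)
    rw [this, index_top] at hidx
    omega
  have hsign : ∀ g, Equiv.Perm.sign (f g) = 1 := SmallGroups.sign_eq_one_of_simple hG f
  obtain ⟨d, hd⟩ := exists_prime_orderOf_dvd_card' (G := D) 3 (by rw [hD3])
  set σ := f (d : G) with hσdef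
  have hσ3 : σ ^ 3 = 1 := by
    rw [hσdef, ← map_pow, ← hd, ← Subgroup.orderOf_coe, pow_orderOf_eq_one, map_one]
  have hσ1 : σ ≠ 1 := by
    intro h
    rw [hσdef, ← map_one f] at h
    have h' : (d : G) = 1 := hinj h
    rw [← Subgroup.orderOf_coe, h', orderOf_one] at hd
    omega
  have hDC : D ≤ centralizer (D : Set G) := by
    haveI := isCyclic_of_prime_card (α := D) (p := 3) hD3
    haveI : IsMulCommutative ↥D := IsCyclic.isMulCommutative
    exact le_centralizer D
  have hσω : σ ω = ω := hfix _ (hCH (hDC d.2))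
  have hσ0 : σ.support.card ≠ 0 := by
    rw [Ne, Finset.card_eq_zero, Equiv.Perm.support_eq_empty_iff]; exact hσ1
  have hσs : 3 ∣ σ.support.card := by
    simpa using dvd_card_inter_support (τ := σ) hσ3 (Commute.refl σ)
  have hσ9 : σ.support.card ≤ 9 := by
    have h : σ.support ⊆ Finset.univ.erase ω := fun a ha =>
      Finset.mem_erase.2 ⟨fun h => Equiv.Perm.mem_support.1 ha (h ▸ hσω), Finset.mem_univ _⟩
    refine (Finset.card_le_card h).trans ?_
    rw [Finset.card_erase_of_mem (Finset.mem_univ _), Finset.card_univ, hc10]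
  by_cases hs3 : σ.support.card = 3
  · -- a three-cycle in a primitive group
    have hcoatom : IsCoatom H := by
      refine ⟨fun h => by rw [h, index_top] at hidx; omega, fun K hK => ?_⟩
      by_contra hKtop
      have hdvd : K.index ∣ 10 := hidx ▸ index_dvd_of_le hK.le
      have hne1 : K.index ≠ 1 := fun h => hKtop (index_eq_one.1 h)
      have hK10 : K.index ≠ 10 := fun h => hK.ne (eq_of_le_of_card_ge hK.le (by
        have h1 := card_mul_index K
        have h2 := card_mul_index H
        rw [h] at h1; rw [hidx] at h2; omega))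
      have := index_factorial hG rfl hne1
      rw [hn] at this
      have hall : ∀ j ∈ Nat.divisors 10, j = 1 ∨ j = 10 ∨ j.factorial % (2 * 720) ≠ 0 := by decide +kernel
      rcases hall _ (Nat.mem_divisors.2 ⟨hdvd, by norm_num⟩) with h | h | h
      · exact hne1 h
      · exact hK10 h
      · exact h (Nat.mod_eq_zero_of_dvd this)
    haveI : Nontrivial (G ⧸ H) := Fintype.one_lt_card_iff_nontrivial.1 (by rw [hc10]; norm_num)
    haveI : MulAction.IsPreprimitive G (G ⧸ H) :=
      (MulAction.isCoatom_stabilizer_iff_preprimitive G ω).1 (hstab.symm ▸ hcoatom)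
    have hprim : MulAction.IsPreprimitive f.range (G ⧸ H) :=
      MulAction.IsPreprimitive.of_surjective
        (f := ({ toFun := fun a => a, map_smul' := fun _ _ => rfl } :
          G ⧸ H →ₑ[(f.rangeRestrict : G → f.range)] G ⧸ H)) Function.surjective_id
    have hle := card_dvd_of_le (SmallGroups.alternatingGroup_le_of_small_support hprim
      (MonoidHom.mem_range.2 ⟨(d : G), rfl⟩) hσ1 hs3.le)
    rw [Nat.card_eq_fintype_card (α := alternatingGroup (G ⧸ H)), card_alternatingGroup, hc10,
      ← Nat.card_congr (MonoidHom.ofInjective hinj).toEquiv, hn] at hle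
    exact absurd (Nat.mod_eq_zero_of_dvd hle : 720 % _ = 0) (by decide +kernel)
  have hinv : ∀ v ∈ V, f v * f v = 1 ∧ f v ω = ω ∧ Commute σ (f v) := fun v hv =>
    ⟨by rw [← map_mul, hV2 v hv, map_one], hfix v (hCH (hVC hv)),
      (show Commute (d : G) v from mem_centralizer_iff.1 (hVC hv) _ d.2).map f⟩
  -- the remaining points
  let T : Finset (G ⧸ H) := (Finset.univ \ σ.support).erase ω
  have hT : T.card + σ.support.card = 9 := by
    rw [show T.card = (Finset.univ \ σ.support).card - 1 from Finset.card_erase_of_mem (by simp [hσω]),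
      Finset.card_sdiff_of_subset (Finset.subset_univ _), Finset.card_univ, hc10]
    omega
  have hTinv : ∀ v ∈ V, ∀ a, f v a ∈ T ↔ a ∈ T := by
    intro v hv a
    obtain ⟨-, hω, hc⟩ := hinv v hv
    simp only [T, Finset.mem_erase, Finset.mem_sdiff, Finset.mem_univ, true_and, Equiv.Perm.notMem_support]
    have h1 : σ (f v a) = f v (σ a) := congrArg (fun e : Equiv.Perm (G ⧸ H) => e a) hc.eq
    rw [h1, (f v).injective.eq_iff]
    refine and_congr_left fun _ => not_congr ⟨fun h => (f v).injective (h.trans hω.symm), fun h => ?_⟩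
    rw [h, hω]
  let r : (v : G) → v ∈ V → Equiv.Perm {a // a ∈ T} := fun v hv => (f v).subtypePerm (hTinv v hv)
  have hmove : ∀ v (hv : v ∈ V), v ≠ 1 → σ.support.card = 6 ∧ r v hv ≠ 1 := by
    intro v hv hv1
    obtain ⟨hsq, hω, hc⟩ := hinv v hv
    have hA := dvd_card_inter_support hσ3 hc
    have he := even_card_support hsq
    have hB : (f v).support \ σ.support ⊆ T := by
      intro a ha
      rw [Finset.mem_sdiff] at ha
      exact Finset.mem_erase.2 ⟨fun h => Equiv.Perm.mem_support.1 ha.1 (h ▸ hω),
        Finset.mem_sdiff.2 ⟨Finset.mem_univ _, ha.2⟩⟩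
    have hB2 : 2 ∣ ((f v).support \ σ.support).card := by
      have hr : r v hv * r v hv = 1 := by
        ext a
        exact congrArg (fun e : Equiv.Perm (G ⧸ H) => e a.1) hsq
      have h := even_card_support hr
      have hmap : (r v hv).support.map (Function.Embedding.subtype _) = (f v).support \ σ.support := by
        ext a
        simp only [Finset.mem_map, Equiv.Perm.mem_support, Finset.mem_sdiff, Function.Embedding.coe_subtype]
        constructor
        · rintro ⟨⟨b, hb⟩, hne, rfl⟩
          exact ⟨fun h' => hne (Subtype.ext h'),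
            Equiv.Perm.mem_support.not.1 (Finset.mem_sdiff.1 (Finset.mem_erase.1 hb).2).2⟩
        · rintro ⟨h1, h2⟩
          have ha : a ∈ T := hB (Finset.mem_sdiff.2 ⟨Equiv.Perm.mem_support.2 h1,
            Equiv.Perm.mem_support.not.2 h2⟩)
          exact ⟨⟨a, ha⟩, fun h' => h1 (congrArg Subtype.val h'), rfl⟩
      rwa [← hmap, Finset.card_map]
    have hadd := Finset.card_inter_add_card_sdiff (f v).support σ.support
    have hk0 : (f v).support.card ≠ 0 := by
      rw [Ne, Finset.card_eq_zero, Equiv.Perm.support_eq_empty_iff, ← map_one f]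
      exact fun h => hv1 (hinj h)
    have hAle : ((f v).support ∩ σ.support).card ≤ σ.support.card :=
      Finset.card_le_card Finset.inter_subset_right
    have hBle := Finset.card_le_card hB
    have hk4 : 4 ∣ (f v).support.card := by
      have h := hsign v
      rw [InvolChar.LargeExtraTransfer.sign_of_sq (f v) hsq] at h
      rcases Nat.even_or_odd ((f v).support.card / 2) with ⟨i, hi⟩ | hodd
      · omega
      · rw [hodd.neg_one_pow] at h; exact absurd h (by decide)
    obtain ⟨hs6, hB0⟩ : σ.support.card = 6 ∧ ((f v).support \ σ.support).card ≠ 0 := by omega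
    refine ⟨hs6, fun h1 => hB0 ?_⟩
    rw [Finset.card_eq_zero, Finset.eq_empty_iff_forall_notMem]
    intro a ha
    have := congrArg (fun e : Equiv.Perm {a // a ∈ T} => (e ⟨a, hB ha⟩).1) h1
    exact Equiv.Perm.mem_support.1 (Finset.mem_sdiff.1 ha).1 this
  haveI : Nontrivial V := Finite.one_lt_card_iff_nontrivial.1 (by rw [hV4]; norm_num)
  obtain ⟨v, hv1⟩ := exists_ne (1 : V)
  obtain ⟨w, hw1, hwv⟩ : ∃ w : V, w ≠ 1 ∧ w ≠ v := by
    haveI := Fintype.ofFinite V
    have h2 : ({1, v} : Finset V) ≠ Finset.univ := by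
      intro h
      have h' := congrArg Finset.card h
      rw [Finset.card_univ, ← Nat.card_eq_fintype_card, hV4] at h'
      have := Finset.card_le_two (a := (1 : V)) (b := v)
      omega
    obtain ⟨w, hw⟩ : ∃ w, w ∉ ({1, v} : Finset V) := by
      by_contra h; push Not at h; exact h2 (Finset.eq_univ_of_forall h)
    simp only [Finset.mem_insert, Finset.mem_singleton, not_or] at hw
    exact ⟨w, hw⟩
  have hvw : (v : G) * w ≠ 1 := fun h => hwv (Subtype.ext (by
    rw [← one_mul (w : G), ← hV2 v v.2, mul_assoc, h, mul_one]))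
  obtain ⟨hs6, hrv⟩ := hmove v v.2 (fun h => hv1 (Subtype.ext h))
  obtain ⟨-, hrw⟩ := hmove w w.2 (fun h => hw1 (Subtype.ext h))
  obtain ⟨-, hrvw⟩ := hmove _ (mul_mem v.2 w.2) hvw
  have h3 : Fintype.card {a // a ∈ T} = 3 := by rw [Fintype.card_coe]; omega
  have hsq' : ∀ u (hu : u ∈ V), r u hu * r u hu = 1 := fun u hu => by
    ext a
    exact congrArg (fun e : Equiv.Perm (G ⧸ H) => e a.1) (hinv u hu).1
  have hmul : r _ (mul_mem v.2 w.2) = r v v.2 * r w w.2 := by
    ext a
    exact congrArg (fun e : Equiv.Perm (G ⧸ H) => e a.1) (map_mul f (v : G) w)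
  have := sign_of_three h3 (hsq' _ (mul_mem v.2 w.2)) hrvw
  rw [hmul, map_mul, sign_of_three h3 (hsq' _ v.2) hrv, sign_of_three h3 (hsq' _ w.2) hrw] at this
  exact absurd this (by decide)

/-- There are ten Sylow subgroups at three. -/
theorem card_sylow_three_eq (hG : ¬ IsMulCommutative G) (hn : Nat.card G = 720) (P : Sylow 3 G) :
    Nat.card (Sylow 3 G) = 10 ∧ Nat.card (normalizer ((P : Subgroup G) : Set G)) = 72 := by
  rcases ten_or_forty hG hn P with h | ⟨hk, -⟩
  · exact h
  exfalso
  obtain ⟨Q, hQ, hD⟩ := exists_inter_of_mod P (by rw [hk]; decide)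
  rw [inter_trivial hG hn hQ, card_bot, card_sylow_three hn P] at hD
  omega

end CfsgLib.SmallSimple.AtMost1092.Sev20
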